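import Cfsg.Agent.Lib.Chev.G2Alt.Monomial
import Cfsg.Agent.Lib.Chev.TwD4
import Cfsg.Agent.Lib.Chev.TrialityLang

/-!
The root subsystem of type `A₂` fixed by triality, the torus element of order three centralised by it, and
the symmetry on its centraliser.
-/

set_option autoImplicit false
set_option linter.unusedSectionVars false
set_option maxRecDepth 100000

namespace Cfsg.Lib.Chev.TriAlt

open Cfsg.Lie
open scoped Matrix

/-- The roots of the subsystem. -/
def longRoots : List ℕ := [0, 1, 9, 14, 22, 23]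

/-- The residue of a root. -/
def res (s : ℕ) : ℕ :=
  [0, 0, 1, 1, 2, 2, 1, 2, 2, 0, 2, 2, 1, 1, 0, 1, 1, 2, 1, 1, 2, 2, 0, 0].getD s 0

/-- The exponents of the torus element. -/
def zExp : ℕ → ℕ := fun j => if j = 1 then 0 else 2

theorem res_exp : ∀ s < 24,
    ((tblD4.cartan 0 s * zExp 0 + tblD4.cartan 1 s * zExp 1 + tblD4.cartan 2 s * zExp 2 +
      tblD4.cartan 3 s * zExp 3 : ℤ) % 3).toNat = res s := by decide +kernel

theorem res_zero : ∀ s < 24, res s = 0 ↔ s ∈ longRoots := by decide +kernel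
theorem res_lt : ∀ s < 24, res s < 3 := by decide +kernel
theorem long_lt : ∀ s ∈ longRoots, s < 24 := by decide +kernel
theorem long_root : ∀ s ∈ longRoots, symD4_3.root s = s := by decide +kernel

variable {F : Type*} [Field F]

/-- The torus element of order three. -/
noncomputable def zElt (ω : Fˣ) : GL chevD4.Idx F :=
  torusHom chevD4 tblD4 F fun j => ω ^ zExp j.val

theorem chr_zc {ω : Fˣ} (hω : ω ^ 3 = 1) {s : ℕ} (hs : s < chevD4.nroots) :
    chr tblD4 chevD4 (extend' (fun j : Fin chevD4.rank => ω ^ zExp j.val)) s = ((ω ^ res s : Fˣ) : F) := by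
  have hext : ∀ j < 4, extend' (fun j : Fin chevD4.rank => ω ^ zExp j.val) j = ((ω ^ zExp j : Fˣ) : F) :=
    fun j hj => by rw [extend', dif_pos (show j < chevD4.rank from hj)]
  have e := res_exp s hs
  simp only [chr, show chevD4.rank = 4 from rfl, Finset.prod_range_succ, Finset.prod_range_zero, one_mul]
  rw [hext 0 (by norm_num), hext 1 (by norm_num), hext 2 (by norm_num), hext 3 (by norm_num)]
  simp only [← Units.val_zpow_eq_zpow_val, ← Units.val_mul, ← zpow_natCast, ← zpow_mul, ← zpow_add]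
  congr 1
  rw [← e, Int.toNat_of_nonneg (Int.emod_nonneg _ (by norm_num))]
  rw [zpow_eq_zpow_emod' _ hω]
  congr 2
  push_cast
  ring

theorem zElt_mem (ω : Fˣ) : zElt ω ∈ chevD4.diagonalSubgroup F := by
  rw [← torusHom_range certD4C]; exact ⟨_, rfl⟩

/-- The subgroup generated by the root subgroups of the subsystem and the torus. -/
noncomputable def longLevi (F : Type*) [Field F] : Subgroup (GL chevD4.Idx F) :=
  Subgroup.closure ({g | ∃ r ∈ longRoots, ∃ t : F, g = xg certD4C r t} ∪ (chevD4.diagonalSubgroup F : Set _))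

theorem diag_le_levi : chevD4.diagonalSubgroup F ≤ longLevi F :=
  fun _ hx => Subgroup.subset_closure (Or.inr hx)

theorem xg_mem_levi {r : ℕ} (hr : r ∈ longRoots) (t : F) : xg certD4C r t ∈ longLevi F :=
  Subgroup.subset_closure (Or.inl ⟨r, hr, t, rfl⟩)

theorem ng_mem_levi {r : ℕ} (hr : r ∈ longRoots) (v : F) : ng certD4C r v ∈ longLevi F := by
  have hn : ∀ r ∈ longRoots, tblD4.neg r ∈ longRoots := by decide +kernel
  rw [ng, certD4C.spec.shape.neg_eq r (long_lt r hr)]
  exact mul_mem (mul_mem (xg_mem_levi hr _) (xg_mem_levi (hn r hr) _)) (xg_mem_levi hr _)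

/-- The torus element commutes with the subgroup. -/
theorem zElt_commute {ω : Fˣ} (hω : ω ^ 3 = 1) {g : GL chevD4.Idx F} (hg : g ∈ longLevi F) :
    zElt ω * g = g * zElt ω := by
  have hle : longLevi F ≤ Subgroup.centralizer {zElt ω} := by
    refine (Subgroup.closure_le _).2 ?_
    rintro x (⟨r, hr, t, rfl⟩ | hx)
    · rw [SetLike.mem_coe, Subgroup.mem_centralizer_singleton_iff, eq_comm, ← mul_inv_eq_iff_eq_mul, zElt,
        torusHom_conj_xg certD4C _ (long_lt r hr), chr_zc hω (long_lt r hr),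
        (res_zero r (long_lt r hr)).2 hr, pow_zero, Units.val_one, one_mul]
    · exact Subgroup.mem_centralizer_singleton_iff.2 (G2Alt.diag_commute certD4C hx (zElt_mem ω))
  exact (Subgroup.mem_centralizer_singleton_iff.1 (hle hg)).symm

/-- Elements of `U` fixed by the torus element. -/
theorem pos_fixed {ω : Fˣ} (hω : orderOf ω = 3) {u : GL chevD4.Idx F} (hu : u ∈ chevD4.posUnipotent F)
    (h : zElt ω * u * (zElt ω)⁻¹ = u) : u ∈ longLevi F := by
  have hω3 : ω ^ 3 = 1 := hω ▸ pow_orderOf_eq_one ω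
  rw [posUnipotent_eq certD4C] at hu
  obtain ⟨t, rfl⟩ := upper_normal_form certD4C fullCertD4.comm (chevD4.nroots / 2) (k := chevD4.nroots / 2)
    (by decide) (by decide) hu
  have e : zElt ω * oprod certD4C (chevD4.nroots / 2) (chevD4.nroots / 2) t * (zElt ω)⁻¹ =
      oprod certD4C (chevD4.nroots / 2) (chevD4.nroots / 2) fun r => ((ω ^ res r : Fˣ) : F) * t r := by
    rw [← MulAut.conj_apply]
    simp only [oprod, map_list_prod, List.map_map]
    refine congrArg List.prod (List.map_congr_left fun r hr => ?_)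
    have hr' : r < chevD4.nroots := by
      have := (List.mem_range'_1.1 hr).2
      simp only [show chevD4.nroots = 24 from rfl] at this ⊢
      omega
    simp only [Function.comp_apply, MulAut.conj_apply, zElt, torusHom_conj_xg certD4C _ hr', chr_zc hω3 hr']
  rw [e] at h
  have h2 := oprod_inj certD4C (chevD4.nroots / 2) (k := chevD4.nroots / 2) (by decide) (by decide) h
  refine Subgroup.list_prod_mem _ fun x hx => ?_
  obtain ⟨r, hr, rfl⟩ := List.mem_map.1 hx
  have hr' := List.mem_range'_1.1 hr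
  have hrn : r < chevD4.nroots := by simp only [show chevD4.nroots = 24 from rfl] at hr' ⊢; omega
  by_cases hres : res r = 0
  · exact xg_mem_levi ((res_zero r hrn).1 hres) _
  · have hne : ((ω ^ res r : Fˣ) : F) ≠ 1 := by
      rw [Ne, Units.val_eq_one]
      exact pow_ne_one_of_lt_orderOf hres (by rw [hω]; exact res_lt r hrn)
    rcases mul_eq_zero.1 (show (((ω ^ res r : Fˣ) : F) - 1) * t r = 0 by
      linear_combination h2 r hr'.1 hrn) with h | h
    · exact absurd (sub_eq_zero.1 h) hne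
    · rw [h, xg_zero]; exact one_mem _

/-- The words of the reflections of the subsystem. -/
def leviWords : List (List ℕ) :=
  [[], [1], [0, 2, 3, 1, 0, 2, 3], [1, 0, 2, 3, 1, 0, 2, 3], [0, 2, 3, 1, 0, 2, 3, 1],
    [1, 0, 2, 3, 1, 0, 2, 3, 1]]

theorem res_stab : ∀ u ∈ allW (nth ([], []) weylD4) chevD4.rank,
    (∀ k < chevD4.rank, res (wperm tblD4 u (tblD4.simp' k)) = res (tblD4.simp' k)) →
    ∃ l ∈ leviWords, ∀ k < chevD4.rank, wperm tblD4 l (tblD4.simp' k) = wperm tblD4 u (tblD4.simp' k) := by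
  decide +kernel

theorem ng_simple_eq : tblD4.simp' 1 = 14 := by decide +kernel

theorem wnu_long : wnu certD4C F [0, 2, 3, 1, 0, 2, 3] ∈ longLevi F := by
  have hw : IsWord chevD4 [0, 2, 3] := by intro i hi; revert i; decide
  have h2 : wnu certD4C F [0, 2, 3] * wnu certD4C F [0, 2, 3] ∈ chevD4.diagonalSubgroup F := by
    rw [← wnu_append]
    exact G2Alt.wnu_mem_diag certD4C fullCertD4 (hw.append hw) (by decide +kernel)
  have e : wnu certD4C F [0, 2, 3] * nu certD4C 1 * (wnu certD4C F [0, 2, 3])⁻¹ ∈ longLevi F := by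
    have h1 : ∀ v : F, nu certD4C 3 * ng certD4C (tblD4.simp' 1) v * (nu certD4C 3)⁻¹ =
        ng certD4C (tblD4.refl' 3 (tblD4.simp' 1)) ((tblD4.eta' 3 (tblD4.simp' 1) : ℤ) * v) := fun v =>
      nu_conj_ng certD4C (by decide) (certD4C.spec.simp_lt 1 (by decide)) v
    have e3 : wnu certD4C F [0, 2, 3] * nu certD4C 1 * (wnu certD4C F [0, 2, 3])⁻¹ =
        nu certD4C 0 * (nu certD4C 2 * (nu certD4C 3 * nu certD4C 1 * (nu certD4C 3)⁻¹) * (nu certD4C 2)⁻¹) *
          (nu certD4C 0)⁻¹ := by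
      simp only [wnu, List.map_cons, List.map_nil, List.prod_cons, List.prod_nil]
      group
    rw [e3, show (nu certD4C 1 : GL chevD4.Idx F) = ng certD4C (tblD4.simp' 1) 1 from rfl, h1,
      nu_conj_ng certD4C (by decide) (by decide +kernel), nu_conj_ng certD4C (by decide) (by decide +kernel)]
    exact ng_mem_levi (by decide +kernel) _
  have e2 : wnu certD4C F [0, 2, 3, 1, 0, 2, 3] = wnu certD4C F [0, 2, 3] * nu certD4C 1 *
      (wnu certD4C F [0, 2, 3])⁻¹ * (wnu certD4C F [0, 2, 3] * wnu certD4C F [0, 2, 3]) := by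
    simp only [wnu, List.map_cons, List.map_nil, List.prod_cons, List.prod_nil]
    group
  rw [e2]
  exact mul_mem e (diag_le_levi h2)

theorem wnu_mem_levi {l : List ℕ} (hl : l ∈ leviWords) : wnu certD4C F l ∈ longLevi F := by
  have h1 : wnu certD4C F [1] ∈ longLevi F := by
    rw [show wnu certD4C F [1] = ng certD4C (tblD4.simp' 1) 1 by simp [wnu, nu]]
    exact ng_mem_levi (by decide +kernel) _
  have h2 := wnu_long (F := F)
  simp only [leviWords, List.mem_cons, List.not_mem_nil, or_false] at hl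
  rcases hl with rfl | rfl | rfl | rfl | rfl | rfl
  · simp [wnu]
  · exact h1
  · exact h2
  · rw [show ([1, 0, 2, 3, 1, 0, 2, 3] : List ℕ) = [1] ++ [0, 2, 3, 1, 0, 2, 3] from rfl, wnu_append]
    exact mul_mem h1 h2
  · rw [show ([0, 2, 3, 1, 0, 2, 3, 1] : List ℕ) = [0, 2, 3, 1, 0, 2, 3] ++ [1] from rfl, wnu_append]
    exact mul_mem h2 h1
  · rw [show ([1, 0, 2, 3, 1, 0, 2, 3, 1] : List ℕ) = [1] ++ [0, 2, 3, 1, 0, 2, 3] ++ [1] from rfl, wnu_append,
      wnu_append]
    exact mul_mem (mul_mem h1 h2) h1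

/-- A word with the permutation of one of the subsystem. -/
theorem word_stab {w : List ℕ} (hw : IsWord chevD4 w)
    (h : ∀ k < chevD4.rank, res (wperm tblD4 w (tblD4.simp' k)) = res (tblD4.simp' k)) :
    wnu certD4C F w ∈ longLevi F := by
  obtain ⟨u, hu, hsame⟩ := allW_complete certD4C fullCertD4 chkWeylD4 _ le_rfl w hw
  obtain ⟨l, hl, hperm⟩ := res_stab u hu fun k hk => by rw [hsame _ (certD4C.spec.simp_lt k hk)]; exact h k hk
  have hlw : IsWord chevD4 l :=
    (show ∀ l ∈ leviWords, ∀ i ∈ l, i < chevD4.rank by decide) l hl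
  have hd : (wnu certD4C F l)⁻¹ * wnu certD4C F w ∈ chevD4.diagonalSubgroup F :=
    same_of_perm certD4C fullCertD4 hlw hw fun k hk => by rw [hperm k hk, hsame _ (certD4C.spec.simp_lt k hk)]
  have := mul_mem (wnu_mem_levi (F := F) hl) (diag_le_levi hd)
  rwa [mul_inv_cancel_left] at this

/-- The centraliser of the torus element. -/
theorem centralizer_zElt {ω : Fˣ} (hω : orderOf ω = 3) {g : GL chevD4.Idx F} (hg : g ∈ chevD4.group F)
    (hc : zElt ω * g = g * zElt ω) : g ∈ longLevi F := by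
  have hω3 : ω ^ 3 = 1 := hω ▸ pow_orderOf_eq_one ω
  obtain ⟨v, hv, b, hb, s, hs, rfl⟩ := bruhat_normal certD4C fullCertD4 hg
  set h := zElt ω with hh
  have hd : h ∈ chevD4.diagonalSubgroup F := zElt_mem ω
  have hdB : ∀ {x : GL chevD4.Idx F}, x ∈ chevD4.diagonalSubgroup F → x ∈ chevD4.borelSubgroup F :=
    Subgroup.mem_sup_right
  have hd' : h * wnu certD4C F v * h⁻¹ * (wnu certD4C F v)⁻¹ ∈ chevD4.diagonalSubgroup F := by
    rw [show h * wnu certD4C F v * h⁻¹ * (wnu certD4C F v)⁻¹ =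
      h * (wnu certD4C F v * h⁻¹ * (wnu certD4C F v)⁻¹) by group]
    exact mul_mem hd (conj_mem_diag certD4C (wnu_mem certD4C hv) (inv_mem hd)).1
  obtain ⟨hbb, hss⟩ := cell_unique certD4C
    (b := h * b * h⁻¹ * (h * wnu certD4C F v * h⁻¹ * (wnu certD4C F v)⁻¹))
    (b' := b) (n := wnu certD4C F v) (u := h * s * h⁻¹) (u' := s)
    (mul_mem (mul_mem (mul_mem (hdB hd) hb) (inv_mem (hdB hd))) (hdB hd')) hb
    ((signPart_conj certD4C fullCertD4 hv).1
      (mul_mem hs (inv_mem (signPart_diag_conj certD4C fullCertD4 hd hs))))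
    (by
      calc _ = h * (b * wnu certD4C F v * s) * h⁻¹ := by group
        _ = _ := by rw [hc]; group)
  have hsL : s ∈ longLevi F := pos_fixed hω (by
    rw [posUnipotent_eq certD4C]; exact signPart_le_upper certD4C fullCertD4 v true _ hs) hss
  obtain ⟨u₀, hu₀, h₀, hh₀, rfl⟩ := (mem_borel certD4C).1 hb
  have e2 : (h * u₀ * h⁻¹) * (h₀ * (h * wnu certD4C F v * h⁻¹ * (wnu certD4C F v)⁻¹)) = u₀ * h₀ := by
    calc _ = h * (u₀ * h₀) * h⁻¹ * (h * wnu certD4C F v * h⁻¹ * (wnu certD4C F v)⁻¹) := by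
          rw [show h * (u₀ * h₀) * h⁻¹ = h * u₀ * h⁻¹ * (h * h₀ * h⁻¹) by group, diag_comm certD4C hd hh₀]
          group
      _ = _ := hbb
  obtain ⟨e3, e4⟩ := borel_parts certD4C
    ((Subgroup.mem_normalizer_iff.1 (diag_le_normalizer certD4C hd) _).1 hu₀) hu₀ (mul_mem hh₀ hd') hh₀ e2
  have e5 : h * wnu certD4C F v * h⁻¹ * (wnu certD4C F v)⁻¹ = 1 := mul_eq_left.1 e4
  have e6 : wnu certD4C F v * h * (wnu certD4C F v)⁻¹ = h := by
    have e7 : h * wnu certD4C F v = wnu certD4C F v * h := by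
      calc h * wnu certD4C F v =
          h * wnu certD4C F v * h⁻¹ * (wnu certD4C F v)⁻¹ * (wnu certD4C F v * h) := by group
        _ = _ := by rw [e5, one_mul]
    rw [← e7]; group
  obtain ⟨e, he, hchr⟩ := torus_word_conj certD4C hv (fun j : Fin chevD4.rank => ω ^ zExp j.val)
  have hres : ∀ k < chevD4.rank, res (wperm tblD4 v (tblD4.simp' k)) = res (tblD4.simp' k) := by
    intro k hk
    have hk' := certD4C.spec.simp_lt k hk
    have h1 : torusHom chevD4 tblD4 F e = torusHom chevD4 tblD4 F fun j => ω ^ zExp j.val := he.symm.trans e6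
    have h2 := hchr _ hk'
    rw [chr_eq_of_torusHom certD4C h1 (wperm_lt certD4C hv hk'), chr_zc hω3 hk',
      chr_zc hω3 (wperm_lt certD4C hv hk'), Units.val_inj] at h2
    exact pow_injOn_Iio_orderOf (by rw [hω]; exact res_lt _ (wperm_lt certD4C hv hk'))
      (by rw [hω]; exact res_lt _ hk') h2
  exact mul_mem (mul_mem (mul_mem (pos_fixed hω hu₀ e3) (diag_le_levi hh₀)) (word_stab hv hres)) hsL

section Symmetry

/-- The symmetry. -/
noncomputable def tau (F : Type*) [Field F] : GL chevD4.Idx F →* GL chevD4.Idx F := symOKD4_tri.glHom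

theorem tau_eq (g : GL chevD4.Idx F) : twSigma symOKD4_tri (RingHom.id F) g = tau F g := by
  rw [twSigma, tau]
  congr 1

theorem tau_xg_long {r : ℕ} (hr : r ∈ longRoots) (t : F) : tau F (xg certD4C r t) = xg certD4C r t := by
  have he : ∀ r ∈ longRoots, symD4_3.eps r = 1 := by decide +kernel
  rw [tau, symOKD4_tri.glHom_xg certD4C (long_lt r hr), long_root r hr, he r hr, Int.cast_one, one_mul]

/-- The torus elements trivial on the subsystem. -/
def IsCentral (k : GL chevD4.Idx F) : Prop :=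
  k ∈ chevD4.diagonalSubgroup F ∧ ∀ r ∈ longRoots, ∀ t : F, k * xg certD4C r t = xg certD4C r t * k

theorem central_commute {k g : GL chevD4.Idx F} (hk : IsCentral k) (hg : g ∈ longLevi F) : k * g = g * k := by
  have hle : longLevi F ≤ Subgroup.centralizer {k} := by
    refine (Subgroup.closure_le _).2 ?_
    rintro x (⟨r, hr, t, rfl⟩ | hx)
    · exact Subgroup.mem_centralizer_singleton_iff.2 (hk.2 r hr t).symm
    · exact Subgroup.mem_centralizer_singleton_iff.2 (G2Alt.diag_commute certD4C hx hk.1)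
  exact (Subgroup.mem_centralizer_singleton_iff.1 (hle hg)).symm

theorem tau_central {g : GL chevD4.Idx F} (hg : g ∈ longLevi F) :
    ∃ k, IsCentral k ∧ tau F g = k * g := by
  induction hg using Subgroup.closure_induction with
  | mem x hx =>
    rcases hx with ⟨r, hr, t, rfl⟩ | hx
    · exact ⟨1, ⟨one_mem _, fun _ _ _ => by simp⟩, by rw [tau_xg_long hr, one_mul]⟩
    · have hd : tau F x ∈ chevD4.diagonalSubgroup F := by
        rw [← tau_eq]; exact twSigma_diag certD4C symOKD4_tri _ hx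
      refine ⟨tau F x * x⁻¹, ⟨mul_mem hd (inv_mem hx), fun r hr t => ?_⟩, (inv_mul_cancel_right _ _).symm⟩
      obtain ⟨χ, hχ⟩ := diag_conj_xg certD4C hx
      have h1 : x * xg certD4C r t * x⁻¹ = xg certD4C r (χ r * t) := (hχ r (long_lt r hr)).2 t
      have h2 := congrArg (tau F) h1
      rw [map_mul, map_mul, map_inv, tau_xg_long hr, tau_xg_long hr, ← h1] at h2
      rw [G2Alt.diag_commute certD4C hd (inv_mem hx), ← mul_inv_eq_iff_eq_mul,
        show x⁻¹ * tau F x * xg certD4C r t * (x⁻¹ * tau F x)⁻¹ =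
          x⁻¹ * (tau F x * xg certD4C r t * (tau F x)⁻¹) * x by group, h2]
      group
  | one => exact ⟨1, ⟨one_mem _, fun _ _ _ => by simp⟩, by simp⟩
  | mul a b ha hb iha ihb =>
    obtain ⟨k, hk, e⟩ := iha
    obtain ⟨l, hl, e'⟩ := ihb
    refine ⟨k * l, ⟨mul_mem hk.1 hl.1, fun r hr t => ?_⟩, ?_⟩
    · rw [mul_assoc, hl.2 r hr t, ← mul_assoc, hk.2 r hr t, mul_assoc]
    · rw [map_mul, e, e', mul_assoc k a (l * b), ← mul_assoc a l b, ← central_commute hl ha]
      group
  | inv a ha iha =>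
    obtain ⟨k, hk, e⟩ := iha
    refine ⟨k⁻¹, ⟨inv_mem hk.1, fun r hr t => ?_⟩, ?_⟩
    · exact ((Commute.inv_left (show Commute k (xg certD4C r t) from hk.2 r hr t))).eq
    · rw [map_inv, e, mul_inv_rev]
      exact ((Commute.inv_inv (show Commute k a from central_commute hk ha)).eq).symm

/-- An element of order three inverted inside the centraliser is fixed by the symmetry. -/
theorem tau_fixed_of_inverted {r v : GL chevD4.Idx F} (hr : r ∈ longLevi F) (hv : v ∈ longLevi F)
    (h3 : v ^ 3 = 1) (hinv : r * v * r⁻¹ = v⁻¹) : tau F v = v := by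
  obtain ⟨k, hk, e⟩ := tau_central hv
  obtain ⟨l, hl, el⟩ := tau_central hr
  have h1 := congrArg (tau F) hinv
  rw [map_mul, map_mul, map_inv, map_inv, e, el] at h1
  have hkr := central_commute hk hr
  have hkv := central_commute hk hv
  have h2 : l * r * (k * v) * (l * r)⁻¹ = k * (r * v * r⁻¹) := by
    have hlx : l * (k * (r * v * r⁻¹)) = k * (r * v * r⁻¹) * l := by
      rw [← mul_assoc, G2Alt.diag_commute certD4C hl.1 hk.1, mul_assoc, central_commute hl (by
        rw [hinv]; exact inv_mem hv), ← mul_assoc]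
    calc l * r * (k * v) * (l * r)⁻¹ = l * (r * k * v * r⁻¹) * l⁻¹ := by group
      _ = l * (k * (r * v * r⁻¹)) * l⁻¹ := by rw [← hkr]; group
      _ = _ := by rw [hlx, mul_inv_cancel_right]
  rw [h2, hinv, mul_inv_rev] at h1
  have hkv' : v⁻¹ * k⁻¹ = k⁻¹ * v⁻¹ := ((Commute.inv_inv (show Commute k v from hkv)).eq).symm
  rw [hkv'] at h1
  have hk2 : k * k = 1 := by
    have := mul_right_cancel h1
    nth_rw 2 [this]
    exact mul_inv_cancel k
  have h4 := congrArg (tau F) h3
  rw [map_pow, e, map_one, (show Commute k v from hkv).mul_pow, h3, mul_one] at h4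
  have hk1 : k = 1 := by rwa [pow_succ, pow_two, hk2, one_mul] at h4
  rw [e, hk1, one_mul]

end Symmetry

end Cfsg.Lib.Chev.TriAlt
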