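import Cfsg.Agent.Lib.Chev.TriAlt.Conj

/-!
An element of order three outside the torus, fixed by the symmetry, is not conjugate to the torus element
centralised by the subsystem.
-/

set_option autoImplicit false
set_option linter.unusedSectionVars false
set_option maxRecDepth 100000

namespace Cfsg.Lib.Chev.TriAlt

open Cfsg.Lie
open scoped Matrix

variable {F : Type*} [Field F]

/-- The coefficients of the roots on the fundamental roots. -/
def coeffs (r : ℕ) : List ℤ :=
  [[-1, -2, -1, -1], [-1, -1, -1, -1], [-1, -1, -1, 0], [-1, -1, 0, -1], [-1, -1, 0, 0], [-1, 0, 0, 0],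
    [0, -1, -1, -1], [0, -1, -1, 0], [0, -1, 0, -1], [0, -1, 0, 0], [0, 0, -1, 0], [0, 0, 0, -1], [0, 0, 0, 1],
    [0, 0, 1, 0], [0, 1, 0, 0], [0, 1, 0, 1], [0, 1, 1, 0], [0, 1, 1, 1], [1, 0, 0, 0], [1, 1, 0, 0], [1, 1, 0, 1],
    [1, 1, 1, 0], [1, 1, 1, 1], [1, 2, 1, 1]].getD r []

/-- A coefficient. -/
def coeff (r k : ℕ) : ℤ := (coeffs r).getD k 0

theorem cartan_coeff : ∀ j < 4, ∀ r < 24, tblD4.cartan j r =
    coeff r 0 * tblD4.cartan j (tblD4.simp' 0) + coeff r 1 * tblD4.cartan j (tblD4.simp' 1) +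
      coeff r 2 * tblD4.cartan j (tblD4.simp' 2) + coeff r 3 * tblD4.cartan j (tblD4.simp' 3) := by decide +kernel

/-- A character is determined by its values on the fundamental roots. -/
theorem chr_coeff (c : Fin chevD4.rank → Fˣ) {r : ℕ} (hr : r < chevD4.nroots) :
    chr tblD4 chevD4 (extend' c) r =
      chr tblD4 chevD4 (extend' c) (tblD4.simp' 0) ^ coeff r 0 *
      chr tblD4 chevD4 (extend' c) (tblD4.simp' 1) ^ coeff r 1 *
      chr tblD4 chevD4 (extend' c) (tblD4.simp' 2) ^ coeff r 2 *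
      chr tblD4 chevD4 (extend' c) (tblD4.simp' 3) ^ coeff r 3 := by
  simp only [chr, ← Finset.prod_zpow, ← Finset.prod_mul_distrib]
  refine Finset.prod_congr rfl fun j hj => ?_
  rw [cartan_coeff j (Finset.mem_range.1 hj) r hr]
  have h0 := extend'_ne c j
  rw [← zpow_mul, ← zpow_mul, ← zpow_mul, ← zpow_mul, ← zpow_add₀ h0, ← zpow_add₀ h0, ← zpow_add₀ h0]
  congr 1
  ring

theorem torus_ext {c c' : Fin chevD4.rank → Fˣ}
    (h : ∀ k < chevD4.rank, chr tblD4 chevD4 (extend' c) (tblD4.simp' k) =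
      chr tblD4 chevD4 (extend' c') (tblD4.simp' k)) :
    torusHom chevD4 tblD4 F c = torusHom chevD4 tblD4 F c' := by
  refine torusHom_congr fun r hr => ?_
  rw [chr_coeff c hr, chr_coeff c' hr, h 0 (by decide), h 1 (by decide), h 2 (by decide), h 3 (by decide)]

theorem chr_mul' (a b : Fin chevD4.rank → Fˣ) (r : ℕ) :
    chr tblD4 chevD4 (extend' (a * b)) r = chr tblD4 chevD4 (extend' a) r * chr tblD4 chevD4 (extend' b) r := by
  simp only [chr, ← Finset.prod_mul_distrib]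
  refine Finset.prod_congr rfl fun j _ => ?_
  unfold extend'
  split_ifs <;> simp [mul_zpow]

theorem chr_inv' (a : Fin chevD4.rank → Fˣ) (r : ℕ) :
    chr tblD4 chevD4 (extend' a⁻¹) r = (chr tblD4 chevD4 (extend' a) r)⁻¹ := by
  simp only [chr, ← Finset.prod_inv_distrib]
  refine Finset.prod_congr rfl fun j _ => ?_
  unfold extend'
  split_ifs <;> simp

theorem tau_chr {c : Fin chevD4.rank → Fˣ}
    (h : tau F (torusHom chevD4 tblD4 F c) = torusHom chevD4 tblD4 F c) {r : ℕ} (hr : r < chevD4.nroots) :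
    chr tblD4 chevD4 (extend' c) (symD4_3.root r) = chr tblD4 chevD4 (extend' c) r := by
  rw [← tau_eq, twSigma_torus certD4C symOKD4_tri] at h
  rw [← chr_eq_of_torusHom certD4C h (symOKD4_tri.root_lt r hr),
    twPar_chr certD4C symOKD4_tri (RingHom.id F) c hr]
  rfl

/-- The parameters of the auxiliary torus element. -/
def sPar (lam mu : Fˣ) : Fin chevD4.rank → Fˣ := fun j => if j.val = 1 then lam * mu else mu

theorem sPar_chr (lam mu : Fˣ) (r : ℕ) :
    chr tblD4 chevD4 (extend' (sPar lam mu)) r =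
      ((mu ^ tblD4.cartan 0 r * (lam * mu) ^ tblD4.cartan 1 r * mu ^ tblD4.cartan 2 r *
        mu ^ tblD4.cartan 3 r : Fˣ) : F) := by
  simp [chr, show chevD4.rank = 4 from rfl, Finset.prod_range_succ, extend', sPar]

/-- An element of the rotated coset fixed by the symmetry is conjugate to a standard one. -/
theorem conj_fixed {ω : Fˣ} (hω : orderOf ω = 3) {d : GL chevD4.Idx F}
    (hd : d ∈ chevD4.diagonalSubgroup F) (hfix : tau F d = d)
    (hcube : ∀ c : Fin chevD4.rank → Fˣ, d = torusHom chevD4 tblD4 F c → ∃ lam mu : Fˣ,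
      ((mu ^ 3 : Fˣ) : F) = chr tblD4 chevD4 (extend' c) 22 ∧
      ((lam ^ 3 : Fˣ) : F) = chr tblD4 chevD4 (extend' c) 14 * chr tblD4 chevD4 (extend' c) 22) :
    ∃ g ∈ chevD4.group F, g * zElt ω * g⁻¹ = zElt ω ∧ ∃ i : Fin 3,
      g * (rot0 F * d) * g⁻¹ = hg certD4C 22 (ω : F) * zElt ω ^ i.val := by
  have hω3 : ω ^ 3 = 1 := hω ▸ pow_orderOf_eq_one ω
  rw [← torusHom_range certD4C] at hd
  obtain ⟨c, rfl⟩ := hd
  obtain ⟨lam, mu, hmu, hlam⟩ := hcube c rfl
  set s := torusHom chevD4 tblD4 F (sPar lam mu) with hs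
  have hsd : s ∈ chevD4.diagonalSubgroup F := by rw [← torusHom_range certD4C]; exact ⟨_, rfl⟩
  obtain ⟨d0, hd0, hrot⟩ := rot0_eq (F := F)
  set W := wnu certD4C F rotWord with hWdef
  have hwm := wnu_mem certD4C (F := F) rotWord_isWord
  obtain ⟨e, he⟩ : W⁻¹ * s * W ∈ (torusHom chevD4 tblD4 F).range := by
    rw [torusHom_range certD4C]; exact (conj_mem_diag certD4C hwm hsd).2
  obtain ⟨e', he', hchr⟩ := torus_word_conj certD4C rotWord_isWord e
  have hes : torusHom chevD4 tblD4 F e' = s := by rw [← he', he, hWdef]; group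
  have hechr : ∀ r < chevD4.nroots, chr tblD4 chevD4 (extend' e) r =
      chr tblD4 chevD4 (extend' (sPar lam mu)) (wperm tblD4 rotWord r) := fun r hr => by
    rw [← hchr r hr, chr_eq_of_torusHom certD4C hes (wperm_lt certD4C rotWord_isWord hr)]
  set c' := e * c * (sPar lam mu)⁻¹ with hc'
  have hconj : s * (rot0 F * torusHom chevD4 tblD4 F c) * s⁻¹ =
      rot0 F * torusHom chevD4 tblD4 F c' := by
    rw [hc', map_mul, map_mul, map_inv, he, hrot, ← hs]
    have hed : W⁻¹ * s * W ∈ chevD4.diagonalSubgroup F := (conj_mem_diag certD4C hwm hsd).2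
    calc s * (W * d0 * torusHom chevD4 tblD4 F c) * s⁻¹
        = W * (W⁻¹ * s * W * d0) * torusHom chevD4 tblD4 F c * s⁻¹ := by group
      _ = _ := by rw [G2Alt.diag_commute certD4C hed hd0]; group
  have hv : ∀ r < chevD4.nroots, chr tblD4 chevD4 (extend' c') r =
      chr tblD4 chevD4 (extend' c) r *
        (((mu ^ tblD4.cartan 0 (wperm tblD4 rotWord r) * (lam * mu) ^ tblD4.cartan 1 (wperm tblD4 rotWord r) *
          mu ^ tblD4.cartan 2 (wperm tblD4 rotWord r) * mu ^ tblD4.cartan 3 (wperm tblD4 rotWord r)) /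
          (mu ^ tblD4.cartan 0 r * (lam * mu) ^ tblD4.cartan 1 r * mu ^ tblD4.cartan 2 r *
            mu ^ tblD4.cartan 3 r) : Fˣ) : F) := fun r hr => by
    rw [hc', chr_mul', chr_mul', chr_inv', hechr r hr, sPar_chr, sPar_chr, Units.val_div_eq_div_val]
    ring
  have v14 : chr tblD4 chevD4 (extend' c') 14 = 1 := by
    rw [hv 14 (by decide), show wperm tblD4 rotWord 14 = 22 by decide +kernel]
    have e1 : chr tblD4 chevD4 (extend' c) 14 = ((lam ^ 3 / mu ^ 3 : Fˣ) : F) := by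
      rw [Units.val_div_eq_div_val, hlam, hmu, mul_div_assoc, div_self (chr_ne_zero' certD4C c 22), mul_one]
    rw [e1, show tblD4.cartan 0 22 = 1 by decide +kernel, show tblD4.cartan 1 22 = -1 by decide +kernel,
      show tblD4.cartan 2 22 = 1 by decide +kernel, show tblD4.cartan 3 22 = 1 by decide +kernel,
      show tblD4.cartan 0 14 = -1 by decide +kernel, show tblD4.cartan 1 14 = 2 by decide +kernel,
      show tblD4.cartan 2 14 = -1 by decide +kernel, show tblD4.cartan 3 14 = -1 by decide +kernel]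
    push_cast
    have hl := lam.ne_zero
    have hm := mu.ne_zero
    simp only [zpow_one, zpow_neg, zpow_ofNat]
    field_simp
  have v22 : chr tblD4 chevD4 (extend' c') 22 = 1 := by
    rw [hv 22 (by decide), show wperm tblD4 rotWord 22 = 0 by decide +kernel, ← hmu,
      show tblD4.cartan 0 22 = 1 by decide +kernel, show tblD4.cartan 1 22 = -1 by decide +kernel,
      show tblD4.cartan 2 22 = 1 by decide +kernel, show tblD4.cartan 3 22 = 1 by decide +kernel,
      show tblD4.cartan 0 0 = 0 by decide +kernel, show tblD4.cartan 1 0 = -1 by decide +kernel,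
      show tblD4.cartan 2 0 = 0 by decide +kernel, show tblD4.cartan 3 0 = 0 by decide +kernel]
    rw [← Units.val_mul, Units.val_eq_one]
    simp only [zpow_one, zpow_neg, zpow_zero, mul_one, one_mul]
    simp only [div_eq_mul_inv, mul_inv_rev, inv_inv, pow_succ, pow_zero, one_mul]
    simp [mul_comm, mul_left_comm, mul_assoc]
  have vτ : ∀ r ∈ [18, 13], chr tblD4 chevD4 (extend' c') (symD4_3.root r) =
      chr tblD4 chevD4 (extend' c') r := by
    intro r hr
    have hr' : r < chevD4.nroots := (show ∀ r ∈ [18, 13], r < 24 by decide) r hr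
    have hd1 : ∀ r ∈ [18, 13], ∀ j < 4,
        tblD4.cartan j (symD4_3.root r) = tblD4.cartan (symD4_3.pI.getD j 0) r ∧
        tblD4.cartan j (wperm tblD4 rotWord (symD4_3.root r)) =
          tblD4.cartan (symD4_3.pI.getD j 0) (wperm tblD4 rotWord r) := by decide +kernel
    rw [hv _ (symOKD4_tri.root_lt r hr'), hv r hr', tau_chr hfix hr']
    rw [(hd1 r hr 0 (by norm_num)).1, (hd1 r hr 0 (by norm_num)).2, (hd1 r hr 1 (by norm_num)).1,
      (hd1 r hr 1 (by norm_num)).2, (hd1 r hr 2 (by norm_num)).1, (hd1 r hr 2 (by norm_num)).2,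
      (hd1 r hr 3 (by norm_num)).1, (hd1 r hr 3 (by norm_num)).2]
    simp only [show symD4_3.pI.getD 0 0 = 3 by decide, show symD4_3.pI.getD 1 0 = 1 by decide,
      show symD4_3.pI.getD 2 0 = 0 by decide, show symD4_3.pI.getD 3 0 = 2 by decide]
    generalize chr tblD4 chevD4 (extend' c) r = X
    generalize tblD4.cartan 0 r = a0, tblD4.cartan 1 r = a1, tblD4.cartan 2 r = a2, tblD4.cartan 3 r = a3
    generalize tblD4.cartan 0 (wperm tblD4 rotWord r) = b0, tblD4.cartan 1 (wperm tblD4 rotWord r) = b1,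
      tblD4.cartan 2 (wperm tblD4 rotWord r) = b2, tblD4.cartan 3 (wperm tblD4 rotWord r) = b3
    refine congrArg (fun z : Fˣ => X * (z : F)) (congrArg₂ (· / ·) ?_ ?_) <;> ac_rfl
  have v13 : chr tblD4 chevD4 (extend' c') 13 = chr tblD4 chevD4 (extend' c') 18 := by
    rw [← vτ 18 (by simp), show symD4_3.root 18 = 13 by decide +kernel]
  have v12 : chr tblD4 chevD4 (extend' c') 12 = chr tblD4 chevD4 (extend' c') 18 := by
    rw [← v13, ← vτ 13 (by simp), show symD4_3.root 13 = 12 by decide +kernel]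
  set y := chr tblD4 chevD4 (extend' c') 18 with hy
  have hsimp : tblD4.simp' 0 = 18 ∧ tblD4.simp' 1 = 14 ∧ tblD4.simp' 2 = 13 ∧ tblD4.simp' 3 = 12 := by
    decide +kernel
  have hy3 : y ^ 3 = 1 := by
    have h22 := chr_coeff c' (r := 22) (by decide)
    rw [v22, hsimp.1, hsimp.2.1, hsimp.2.2.1, hsimp.2.2.2, ← hy, v14, v13, v12] at h22
    simp [coeff, coeffs] at h22
    rw [pow_succ, pow_two]
    exact h22.symm
  obtain ⟨i, hi⟩ : ∃ i : Fin 3, y = (((ω ^ i.val : Fˣ)) : F) := by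
    classical
    have hyne : y ≠ 0 := chr_ne_zero' certD4C c' 18
    have hmem : Units.mk0 y hyne ∈ Subgroup.zpowers ω := by
      have hprim : IsPrimitiveRoot ω 3 := hω ▸ IsPrimitiveRoot.orderOf ω
      haveI : NeZero 3 := ⟨by norm_num⟩
      rw [hprim.zpowers_eq, mem_rootsOfUnity]
      exact Units.ext (by simpa using hy3)
    obtain ⟨i, hi, e⟩ := (IsOfFinOrder.mem_zpowers_iff_mem_range_orderOf
      (orderOf_pos_iff.1 (by rw [hω]; norm_num))).1 hmem |> Finset.mem_image.1
    rw [hω, Finset.mem_range] at *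
    exact ⟨⟨i, by assumption⟩, by simp [e]⟩
  have hz : torusHom chevD4 tblD4 F c' = zElt ω ^ i.val := by
    rw [zElt, ← map_pow]
    refine torus_ext fun k hk => ?_
    have hk' := certD4C.spec.simp_lt k hk
    rw [chr_pow' (T := tblD4), chr_zc hω3 hk', ← Units.val_pow_eq_pow_val]
    have hk4 : k = 0 ∨ k = 1 ∨ k = 2 ∨ k = 3 := by
      have : k < 4 := hk
      omega
    have hres : res 18 = 1 ∧ res 14 = 0 ∧ res 13 = 1 ∧ res 12 = 1 := by decide +kernel
    rcases hk4 with rfl | rfl | rfl | rfl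
    · rw [hsimp.1, hres.1, pow_one, ← hy]; exact hi
    · rw [hsimp.2.1, hres.2.1, pow_zero, one_pow, Units.val_one]; exact v14
    · rw [hsimp.2.2.1, hres.2.2.1, pow_one, v13]; exact hi
    · rw [hsimp.2.2.2, hres.2.2.2, pow_one, v12]; exact hi
  obtain ⟨g0, hg0, hg0c⟩ := rot0_conj hω
  have hgz := zElt_commute hω3 hg0
  have hgG : g0 ∈ chevD4.group F := by
    refine (Subgroup.closure_le _).2 ?_ hg0
    rintro x (⟨r, -, t, rfl⟩ | hx)
    · exact xg_mem_group certD4C r t
    · exact diag_le_group certD4C hx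
  refine ⟨g0 * s, mul_mem hgG (diag_le_group certD4C hsd), ?_, i, ?_⟩
  · calc g0 * s * zElt ω * (g0 * s)⁻¹ = g0 * (s * zElt ω) * s⁻¹ * g0⁻¹ := by group
      _ = g0 * (zElt ω * s) * s⁻¹ * g0⁻¹ := by rw [G2Alt.diag_commute certD4C hsd (zElt_mem ω)]
      _ = g0 * zElt ω * g0⁻¹ := by group
      _ = _ := by rw [← hgz, mul_inv_cancel_right]
  · have hp : g0 * zElt ω ^ i.val * g0⁻¹ = zElt ω ^ i.val := by
      rw [← ((show Commute (zElt ω) g0 from hgz).pow_left i.val).eq, mul_inv_cancel_right]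
    calc g0 * s * (rot0 F * torusHom chevD4 tblD4 F c) * (g0 * s)⁻¹
        = g0 * (s * (rot0 F * torusHom chevD4 tblD4 F c) * s⁻¹) * g0⁻¹ := by group
      _ = g0 * rot0 F * g0⁻¹ * (g0 * zElt ω ^ i.val * g0⁻¹) := by rw [hconj, hz]; group
      _ = _ := by rw [hg0c, hp]

theorem class_sep : ∀ u ∈ allW (nth ([], []) weylD4) chevD4.rank, ∀ i : ℕ, i < 3 →
    ∃ r ∈ longRoots, (tblD4.cartan 0 (wperm tblD4 u r) + tblD4.cartan 1 (wperm tblD4 u r) +
      tblD4.cartan 2 (wperm tblD4 u r) + tblD4.cartan 3 (wperm tblD4 u r) +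
      (i : ℤ) * res (wperm tblD4 u r)) % 3 ≠ 0 := by decide +kernel

/-- The two classes are different. -/
theorem not_conj {ω ω' : Fˣ} (hω : orderOf ω = 3) (hω' : ω' ^ 3 = 1) (i : Fin 3) {g : GL chevD4.Idx F}
    (hgG : g ∈ chevD4.group F) :
    g * zElt ω' * g⁻¹ ≠ hg certD4C 22 (ω : F) * zElt ω ^ i.val := by
  intro h
  have hω3 : ω ^ 3 = 1 := hω ▸ pow_orderOf_eq_one ω
  obtain ⟨n, hn, hfus⟩ := G2Alt.torus_fusion certD4C fullCertD4 hgG
  rw [hfus _ (zElt_mem ω') (by
    rw [h]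
    exact mul_mem (hg_mem certD4C (by decide) ω.ne_zero) (pow_mem (zElt_mem ω) _))] at h
  obtain ⟨u, hu, huw, d, hd, rfl⟩ := G2Alt.monomial_word certD4C fullCertD4 chkWeylD4 hn
  have hdz : d * zElt ω' * d⁻¹ = zElt ω' := by
    rw [G2Alt.diag_commute certD4C hd (zElt_mem ω'), mul_inv_cancel_right]
  rw [mul_inv_rev, show ∀ w : GL chevD4.Idx F, w * d * zElt ω' * (d⁻¹ * w⁻¹) = w * (d * zElt ω' * d⁻¹) * w⁻¹ from
    fun w => by group, hdz] at h
  obtain ⟨e, he, hchr⟩ := torus_word_conj certD4C huw (fun j : Fin chevD4.rank => ω' ^ zExp j.val)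
  rw [zElt, he, hg_eq_torus certD4C (by decide) ω.ne_zero, zElt, ← map_pow, ← map_mul] at h
  obtain ⟨r, hr, hne⟩ := class_sep u hu i.val i.2
  have hr' := long_lt r hr
  have hpr := wperm_lt certD4C huw hr'
  have h1 := hchr r hr'
  rw [chr_eq_of_torusHom certD4C h hpr, chr_zc hω' hr', (res_zero r hr').2 hr, pow_zero, Units.val_one,
    chr_mul', chr_pow' (T := tblD4), chr_zc hω3 hpr, ← Units.val_pow_eq_pow_val] at h1
  refine hne ?_
  set p := wperm tblD4 u r
  have e22 : chr tblD4 chevD4 (extend' fun k : Fin chevD4.rank =>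
      Units.mk0 ((ω : F) ^ tblD4.coroot 22 k) (zpow_ne_zero _ ω.ne_zero)) p =
      ((ω ^ (tblD4.cartan 0 p + tblD4.cartan 1 p + tblD4.cartan 2 p + tblD4.cartan 3 p) : Fˣ) : F) := by
    simp [chr, show chevD4.rank = 4 from rfl, Finset.prod_range_succ, extend', chr22_data, zpow_add]
  rw [e22, ← Units.val_mul, Units.val_eq_one, ← pow_mul, ← zpow_natCast, ← zpow_add,
    ← orderOf_dvd_iff_zpow_eq_one, hω] at h1
  push_cast at h1
  rw [mul_comm (i.val : ℤ)]
  exact Int.emod_eq_zero_of_dvd h1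

end Cfsg.Lib.Chev.TriAlt
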