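import Cfsg.Agent.Lib.Chev.TriAlt.Base
import Cfsg.Agent.Lib.Chev.Perfect

/-!
The elements of order three of the fixed subsystem group outside the torus are conjugate into the torus.
-/

set_option autoImplicit false
set_option linter.unusedSectionVars false
set_option maxRecDepth 100000

namespace Cfsg.Lib.Chev.TriAlt

open Cfsg.Lie
open scoped Matrix MatrixGroups commutatorElement

variable {F : Type*} [Field F]

/-- The monomial element rotating the subsystem. -/
noncomputable def rot0 (F : Type*) [Field F] : GL chevD4.Idx F := ng certD4C 14 1 * ng certD4C 22 1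

theorem rot0_mem_levi : rot0 F ∈ longLevi F :=
  mul_mem (ng_mem_levi (by decide) _) (ng_mem_levi (by decide) _)

theorem tau_rot0 : tau F (rot0 F) = rot0 F := by
  have h : ∀ r ∈ longRoots, ∀ v : F, tau F (ng certD4C r v) = ng certD4C r v := by
    intro r hr v
    have hn : ∀ r ∈ longRoots, tblD4.neg r ∈ longRoots := by decide +kernel
    rw [ng, certD4C.spec.shape.neg_eq r (long_lt r hr), map_mul, map_mul, tau_xg_long hr,
      tau_xg_long (hn r hr)]
  rw [rot0, map_mul, h 14 (by decide), h 22 (by decide)]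

/-- The word of the rotation. -/
def rotWord : List ℕ := [1, 0, 2, 3, 1, 0, 2, 3]

theorem rotWord_isWord : IsWord chevD4 rotWord :=
  (show ∀ i ∈ rotWord, i < chevD4.rank by decide)

theorem rot0_eq : ∃ d ∈ chevD4.diagonalSubgroup F, rot0 F = wnu certD4C F rotWord * d := by
  have hw : IsWord chevD4 [0, 2, 3] := by intro i hi; revert i; decide
  set W := wnu certD4C F [0, 2, 3] with hW
  have h2 : W * W ∈ chevD4.diagonalSubgroup F := by
    rw [hW, ← wnu_append]
    exact G2Alt.wnu_mem_diag certD4C fullCertD4 (hw.append hw) (by decide +kernel)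
  obtain ⟨c, hc, e⟩ : ∃ c : F, c ≠ 0 ∧ W * nu certD4C 1 * W⁻¹ = ng certD4C 22 c := by
    have e3 : W * nu certD4C 1 * W⁻¹ =
        nu certD4C 0 * (nu certD4C 2 * (nu certD4C 3 * nu certD4C 1 * (nu certD4C 3)⁻¹) * (nu certD4C 2)⁻¹) *
          (nu certD4C 0)⁻¹ := by
      simp only [hW, wnu, List.map_cons, List.map_nil, List.prod_cons, List.prod_nil]
      group
    rw [e3, show (nu certD4C 1 : GL chevD4.Idx F) = ng certD4C (tblD4.simp' 1) 1 from rfl,
      nu_conj_ng certD4C (by decide) (by decide +kernel), nu_conj_ng certD4C (by decide) (by decide +kernel),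
      nu_conj_ng certD4C (by decide) (by decide +kernel),
      show tblD4.refl' 0 (tblD4.refl' 2 (tblD4.refl' 3 (tblD4.simp' 1))) = 22 by decide +kernel]
    exact ⟨_, mul_ne_zero (eta_ne_zero tblD4 _ _) (mul_ne_zero (eta_ne_zero tblD4 _ _)
      (mul_ne_zero (eta_ne_zero tblD4 _ _) one_ne_zero)), rfl⟩
  have hd : hg certD4C 22 c ∈ chevD4.diagonalSubgroup F := hg_mem certD4C (by decide) hc
  have hng : ng certD4C 22 1 = (hg certD4C 22 c)⁻¹ * (W * nu certD4C 1 * W) * (W * W)⁻¹ := by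
    have : W * nu certD4C 1 * W * (W * W)⁻¹ = W * nu certD4C 1 * W⁻¹ := by group
    rw [mul_assoc, this, e, ng_eq certD4C (by decide) c, inv_mul_cancel_left]
  have hB : W * nu certD4C 1 * W = wnu certD4C F [0, 2, 3, 1, 0, 2, 3] := by
    simp only [hW, wnu, List.map_cons, List.map_nil, List.prod_cons, List.prod_nil]
    group
  have hwB : IsWord chevD4 [0, 2, 3, 1, 0, 2, 3] := by intro i hi; revert i; decide
  set B := wnu certD4C F [0, 2, 3, 1, 0, 2, 3] with hBdef
  rw [hB] at hng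
  refine ⟨B⁻¹ * (hg certD4C 22 c)⁻¹ * B * (W * W)⁻¹,
    mul_mem (conj_mem_diag certD4C (wnu_mem certD4C hwB) (inv_mem hd)).2 (inv_mem h2), ?_⟩
  rw [rot0, show rotWord = [1] ++ [0, 2, 3, 1, 0, 2, 3] from rfl, wnu_append, ← hBdef,
    show wnu certD4C F [1] = ng certD4C 14 1 by simp [wnu, nu, show tblD4.simp' 1 = 14 by decide +kernel], hng]
  group

/-- A letter with a numeric parameter. -/
def lx (r : ℕ) (c : ℤ) : Ltr := .x r [⟨c, 0, 0⟩]

/-- The letters of `n_r(c)`, for `c = ±1`. -/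
def ln (r : ℕ) (c : ℤ) : List Ltr := [lx r c, lx (tblD4.neg r) (-c), lx r c]

theorem conj_identity :
    rot0 F * (xg certD4C 0 1 * xg certD4C 9 (-1)) =
      xg certD4C 0 1 * xg certD4C 9 (-1) *
        (xg certD4C 14 1 * (ng certD4C 22 1 * xg certD4C 22 1)) := by
  refine Units.ext ?_
  have h := wmat_eq_of_sameWord (1 : F) 1 certD4C.spec.shape one_ne_zero one_ne_zero
    (w₁ := ln 14 1 ++ ln 22 1 ++ [lx 0 1, lx 9 (-1)])
    (w₂ := [lx 0 1, lx 9 (-1), lx 14 1] ++ ln 22 1 ++ [lx 22 1])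
    (by simp [ln, lx, Ltr.ok, show tblD4.neg 14 = 9 by decide +kernel, show tblD4.neg 22 = 1 by decide +kernel,
      show chevD4.nroots = 24 from rfl])
    (by simp [ln, lx, Ltr.ok, show tblD4.neg 22 = 1 by decide +kernel, show chevD4.nroots = 24 from rfl])
    (by decide +kernel)
  simpa [wmat, ln, lx, Ltr.mat, pval, Mono.val, rot0, ng, coe_xg, Units.val_mul,
    certD4C.spec.shape.neg_eq 14 (by decide), certD4C.spec.shape.neg_eq 22 (by decide), mul_assoc] using h

/-- The unipotent part normalised by the group of the root twenty-two. -/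
noncomputable def wPart (F : Type*) [Field F] : Subgroup (GL chevD4.Idx F) :=
  Subgroup.closure {g | ∃ r ∈ [14, 23], ∃ t : F, g = xg certD4C r t}

theorem comm_data : ∀ r ∈ [14, 23], ∀ s ∈ [22, 1, 14, 23], s ≠ r →
    s ≠ tblD4.neg r ∧ ∀ c ∈ tTerms tblD4 r s, c.1 ∈ [14, 23] ∧ (s = 14 ∨ s = 23 → False) := by
  decide +kernel

theorem wPart_conj {s : ℕ} (hs : s = 22 ∨ s = 1) (u : F) {g : GL chevD4.Idx F} (hg : g ∈ wPart F) :
    xg certD4C s u * g * (xg certD4C s u)⁻¹ ∈ wPart F := by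
  refine conj_mem_closure ?_ hg
  rintro x ⟨r, hr, t, rfl⟩
  have hsm : s ∈ [22, 1, 14, 23] := by rcases hs with rfl | rfl <;> simp
  have hne : s ≠ r := by
    simp only [List.mem_cons, List.not_mem_nil, or_false] at hr
    rcases hs with rfl | rfl <;> rcases hr with rfl | rfl <;> omega
  obtain ⟨h2, hc⟩ := comm_data r hr s hsm hne
  have hr' : r < chevD4.nroots := by
    have : ∀ r ∈ [14, 23], r < 24 := by decide
    exact this r hr
  have hs' : s < chevD4.nroots := by rcases hs with rfl | rfl <;> decide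
  have hmem : ⁅(xg certD4C s (-u))⁻¹, (xg certD4C r (-t))⁻¹⁆ ∈ wPart F := by
    rw [comm_xg_prod certD4C fullCertD4.comm hr' hs' hne h2]
    refine Subgroup.list_prod_mem _ fun x hx => ?_
    obtain ⟨c, hc', rfl⟩ := List.mem_map.1 hx
    exact Subgroup.subset_closure ⟨c.1, (hc c hc').1, _, rfl⟩
  have e : xg certD4C s u * xg certD4C r t * (xg certD4C s u)⁻¹ =
      ⁅(xg certD4C s (-u))⁻¹, (xg certD4C r (-t))⁻¹⁆ * xg certD4C r t := by
    rw [show (xg certD4C s (-u))⁻¹ = xg certD4C s u by rw [xg_inv, neg_neg],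
      show (xg certD4C r (-t))⁻¹ = xg certD4C r t by rw [xg_inv, neg_neg], commutatorElement_def]
    group
  rw [e]
  exact mul_mem hmem (Subgroup.subset_closure ⟨r, hr, t, rfl⟩)

theorem wPart_commute (t u : F) : Commute (xg certD4C 14 t) (xg certD4C 23 u) := by
  have hc : ∀ c ∈ tTerms tblD4 14 23, False := fun c h =>
    ((comm_data 14 (by simp) 23 (by simp) (by decide)).2 c h).2 (Or.inr rfl)
  have h := comm_xg_prod certD4C fullCertD4.comm (r := 14) (s := 23) (by decide) (by decide) (by decide)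
    (comm_data 14 (by simp) 23 (by simp) (by decide)).1 t u
  rw [show tTerms tblD4 14 23 = [] from List.eq_nil_iff_forall_not_mem.2 hc, List.map_nil, List.prod_nil,
    commutatorElement_eq_one_iff_mul_comm] at h
  exact (Commute.inv_inv_iff.1 (show Commute _ _ from h)).symm

theorem wPart_form {g : GL chevD4.Idx F} (hg : g ∈ wPart F) :
    ∃ a b : F, g = xg certD4C 14 a * xg certD4C 23 b := by
  induction hg using Subgroup.closure_induction with
  | mem x hx =>
    obtain ⟨r, hr, t, rfl⟩ := hx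
    simp only [List.mem_cons, List.not_mem_nil, or_false] at hr
    rcases hr with rfl | rfl
    · exact ⟨t, 0, by rw [xg_zero, mul_one]⟩
    · exact ⟨0, t, by rw [xg_zero, one_mul]⟩
  | one => exact ⟨0, 0, by rw [xg_zero, xg_zero, one_mul]⟩
  | mul x y _ _ hx hy =>
    obtain ⟨a, b, rfl⟩ := hx
    obtain ⟨c, d, rfl⟩ := hy
    refine ⟨a + c, b + d, ?_⟩
    rw [← xg_add, ← xg_add]
    calc xg certD4C 14 a * xg certD4C 23 b * (xg certD4C 14 c * xg certD4C 23 d)
        = xg certD4C 14 a * (xg certD4C 23 b * xg certD4C 14 c) * xg certD4C 23 d := by group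
      _ = _ := by rw [← (wPart_commute c b).eq]; group
  | inv x _ hx =>
    obtain ⟨a, b, rfl⟩ := hx
    exact ⟨-a, -b, by rw [mul_inv_rev, xg_inv, xg_inv, (wPart_commute (-a) (-b)).eq]⟩

theorem chr22_data : ∀ j < 4, tblD4.coroot 22 j = 1 := by decide +kernel

theorem hg22_conj {ω : Fˣ} (hω : ω ^ 3 = 1) (r : ℕ) (hr : r ∈ [14, 23]) (a : F) :
    hg certD4C 22 (ω : F) * xg certD4C r a * (hg certD4C 22 (ω : F))⁻¹ =
      xg certD4C r ((if r = 14 then ((ω ^ 2 : Fˣ) : F) else (ω : F)) * a) := by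
  have hr' : r < chevD4.nroots := (show ∀ r ∈ [14, 23], r < 24 by decide) r hr
  rw [hg_eq_torus certD4C (by decide) ω.ne_zero, torusHom_conj_xg certD4C _ hr']
  congr 2
  have hsum : ∀ r ∈ [14, 23], (tblD4.cartan 0 r + tblD4.cartan 1 r + tblD4.cartan 2 r + tblD4.cartan 3 r) =
      if r = 14 then -1 else 1 := by decide +kernel
  simp only [chr, show chevD4.rank = 4 from rfl, Finset.prod_range_succ, Finset.prod_range_zero, one_mul,
    extend', show (0 : ℕ) < 4 by norm_num, show (1 : ℕ) < 4 by norm_num, show (2 : ℕ) < 4 by norm_num,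
    show (3 : ℕ) < 4 by norm_num, dif_pos, Units.val_mk0, chr22_data, zpow_one]
  rw [← zpow_add₀ ω.ne_zero, ← zpow_add₀ ω.ne_zero, ← zpow_add₀ ω.ne_zero, hsum r hr]
  split_ifs
  · rw [← Units.val_zpow_eq_zpow_val]
    congr 1
    rw [zpow_neg_one]
    exact (eq_inv_of_mul_eq_one_left (by rw [← pow_succ, hω])).symm
  · rw [zpow_one]

/-- The rotation is conjugate to a torus element. -/
theorem rot0_conj {ω : Fˣ} (hω : orderOf ω = 3) :
    ∃ g ∈ longLevi F, g * rot0 F * g⁻¹ = hg certD4C 22 (ω : F) := by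
  have hω3 : ω ^ 3 = 1 := hω ▸ pow_orderOf_eq_one ω
  have hωne : (ω : F) ≠ 1 := by
    rw [Ne, Units.val_eq_one]
    intro h; rw [h, orderOf_one] at hω; omega
  have hω2ne : ((ω ^ 2 : Fˣ) : F) ≠ 1 := by
    rw [Ne, Units.val_eq_one]
    exact pow_ne_one_of_lt_orderOf (by norm_num) (by omega)
  have hsum : (ω : F) ^ 2 + ω + 1 = 0 := by
    have h3 : (ω : F) ^ 3 = 1 := by rw [← Units.val_pow_eq_pow_val, hω3, Units.val_one]
    rcases mul_eq_zero.1 (show ((ω : F) - 1) * ((ω : F) ^ 2 + ω + 1) = 0 by linear_combination h3) with h | h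
    · exact absurd (sub_eq_zero.1 h) hωne
    · exact h
  have h3 : (ω : F) ^ 3 = 1 := by linear_combination ((ω : F) - 1) * hsum
  set R := rootRel certD4C (F := F) (show 22 < chevD4.nroots by decide)
  have hk : (ω : F) ^ 2 - ω ≠ 0 := by
    intro h
    rcases mul_eq_zero.1 (show (ω : F) * ((ω : F) - 1) = 0 by linear_combination h) with h | h
    · exact ω.ne_zero h
    · exact hωne (sub_eq_zero.1 h)
  set k := ((ω : F) ^ 2 - ω)⁻¹
  have hkk : k * ((ω : F) ^ 2 - ω) = 1 := inv_mul_cancel₀ hk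
  let P : SL(2, F) := ⟨!![1, k; (ω : F), k * (ω : F) ^ 2], by
    rw [Matrix.det_fin_two_of]; linear_combination hkk⟩
  have hAP : SLTwoRel.rot * SLTwoRel.upr 1 * P = P * SLTwoRel.tri (ω : F) 0 ω.ne_zero := by
    have hinv : (ω : F)⁻¹ = (ω : F) ^ 2 := inv_eq_of_mul_eq_one_right (by linear_combination h3)
    refine Subtype.ext ?_
    rw [Matrix.SpecialLinearGroup.coe_mul, Matrix.SpecialLinearGroup.coe_mul, Matrix.SpecialLinearGroup.coe_mul,
      SLTwoRel.coe_rot, SLTwoRel.coe_upr, SLTwoRel.coe_tri,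
      show (P : Matrix (Fin 2) (Fin 2) F) = !![1, k; (ω : F), k * (ω : F) ^ 2] from rfl]
    ext i j
    fin_cases i <;> fin_cases j <;> simp [Matrix.mul_apply, Fin.sum_univ_two, hinv] <;> grind
  have hA : R.hom (SLTwoRel.rot * SLTwoRel.upr 1) = ng certD4C 22 1 * xg certD4C 22 1 := by
    rw [map_mul]
    exact congrArg₂ (· * ·) R.toFun'_rot (R.toFun'_upr 1)
  have hT : R.hom (SLTwoRel.tri (ω : F) 0 ω.ne_zero) = hg certD4C 22 (ω : F) := by
    show R.toFun' _ = _
    simp [SLTwoRel.toFun', SLTwoRel.tri, R, rootRel, xg_zero]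
  set Q := R.hom P with hQdef
  have hQ : Q ∈ Subgroup.closure (Set.range R.x ∪ Set.range R.y) := by
    rw [← SLTwoRel.hom_range]; exact ⟨P, rfl⟩
  have hn22 : tblD4.neg 22 = 1 := by decide +kernel
  have hQL : Q ∈ longLevi F := by
    refine (Subgroup.closure_le _).2 ?_ hQ
    rintro x (⟨t, rfl⟩ | ⟨t, rfl⟩)
    · exact xg_mem_levi (by decide) t
    · show xg certD4C (tblD4.neg 22) t ∈ longLevi F
      rw [hn22]; exact xg_mem_levi (by decide) t
  have hQW : Q⁻¹ * xg certD4C 14 1 * Q ∈ wPart F := by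
    have hle : Subgroup.closure (Set.range R.x ∪ Set.range R.y) ≤ Subgroup.normalizer (wPart F : Set _) := by
      refine (Subgroup.closure_le _).2 ?_
      rintro x (⟨t, rfl⟩ | ⟨t, rfl⟩) <;> rw [SetLike.mem_coe, Subgroup.mem_normalizer_iff] <;> intro y
      · refine ⟨wPart_conj (Or.inl rfl) t, fun h => ?_⟩
        have := wPart_conj (Or.inl rfl) (-t) h
        rw [← xg_inv] at this
        simpa [R, rootRel, mul_assoc] using this
      · show _ ↔ xg certD4C (tblD4.neg 22) t * y * (xg certD4C (tblD4.neg 22) t)⁻¹ ∈ wPart F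
        rw [hn22]
        refine ⟨wPart_conj (Or.inr rfl) t, fun h => ?_⟩
        have := wPart_conj (Or.inr rfl) (-t) h
        rw [← xg_inv] at this
        simpa [mul_assoc] using this
    have := (Subgroup.mem_normalizer_iff.1 (inv_mem (hle hQ)) (xg certD4C 14 1)).1
      (Subgroup.subset_closure ⟨14, by simp, 1, rfl⟩)
    simpa using this
  obtain ⟨a, b, hab⟩ := wPart_form hQW
  set h := hg certD4C 22 (ω : F)
  set g0 := xg certD4C 0 (1 : F) * xg certD4C 9 (-1)
  have hg0 : g0 ∈ longLevi F := mul_mem (xg_mem_levi (by decide) _) (xg_mem_levi (by decide) _)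
  have hy : Q⁻¹ * (g0⁻¹ * rot0 F * g0) * Q = xg certD4C 14 a * xg certD4C 23 b * h := by
    rw [mul_assoc g0⁻¹, conj_identity, inv_mul_cancel_left, ← hA, ← hab, ← hT, hQdef]
    rw [mul_assoc (R.hom P)⁻¹, mul_assoc (xg certD4C 14 1), ← map_mul, hAP, map_mul]
    group
  set v := xg certD4C 14 (a / (1 - ((ω ^ 2 : Fˣ) : F))) * xg certD4C 23 (b / (1 - (ω : F)))
  have hv : v ∈ longLevi F := mul_mem (xg_mem_levi (by decide) _) (xg_mem_levi (by decide) _)
  have hconj : xg certD4C 14 a * xg certD4C 23 b * h * v = v * h := by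
    have e1 : h * v = xg certD4C 14 (((ω ^ 2 : Fˣ) : F) * (a / (1 - ((ω ^ 2 : Fˣ) : F)))) *
        xg certD4C 23 ((ω : F) * (b / (1 - (ω : F)))) * h := by
      have c1 := hg22_conj hω3 14 (by simp) (a / (1 - ((ω ^ 2 : Fˣ) : F)))
      have c2 := hg22_conj hω3 23 (by simp) (b / (1 - (ω : F)))
      rw [if_pos rfl] at c1
      rw [if_neg (by norm_num)] at c2
      rw [← c1, ← c2]
      simp only [v, h]
      group
    rw [mul_assoc _ h, e1]
    generalize h = H
    have n1 : (1 : F) - ((ω ^ 2 : Fˣ) : F) ≠ 0 := sub_ne_zero.2 (Ne.symm hω2ne)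
    have n2 : (1 : F) - (ω : F) ≠ 0 := sub_ne_zero.2 (Ne.symm hωne)
    have hsw : ∀ x y z u : F, xg certD4C 14 x * xg certD4C 23 y * (xg certD4C 14 z * xg certD4C 23 u * H) =
        xg certD4C 14 (x + z) * xg certD4C 23 (y + u) * H := by
      intro x y z u
      rw [← xg_add, ← xg_add]
      calc _ = xg certD4C 14 x * (xg certD4C 23 y * xg certD4C 14 z) * (xg certD4C 23 u * H) := by group
        _ = _ := by rw [← (wPart_commute z y).eq]; group
    rw [hsw]
    congr 3 <;> field_simp <;> ring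
  refine ⟨v⁻¹ * Q⁻¹ * g0⁻¹, mul_mem (mul_mem (inv_mem hv) (inv_mem hQL)) (inv_mem hg0), ?_⟩
  calc v⁻¹ * Q⁻¹ * g0⁻¹ * rot0 F * (v⁻¹ * Q⁻¹ * g0⁻¹)⁻¹
      = v⁻¹ * (Q⁻¹ * (g0⁻¹ * rot0 F * g0) * Q * v) := by group
    _ = _ := by rw [hy, hconj, inv_mul_cancel_left]

end Cfsg.Lib.Chev.TriAlt
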