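import Cfsg.Agent.Lib.Chev.TriAlt.Class

/-!
The torus and the monomial subgroup of the triality-twisted group.
-/

set_option autoImplicit false
set_option linter.unusedSectionVars false
set_option maxRecDepth 100000

namespace Cfsg.Lib.Chev.TriAlt

open Cfsg.Lie
open scoped Matrix

/-- The data of a twisted group. -/
structure TriData (K : Type*) [Field K] [Fintype K] (q : ℕ) where
  f : K →+* K
  prim : IsPrimePow q
  card : Fintype.card K = q ^ 3
  pow : ∀ t, f t = t ^ q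
  eq_fixed : Cfsg.Lie.twistedD4 K q =
    (twSimplyD4.twOK certD4C symOKD4_tri f fullCertD4 twCombD4).fixed certD4C

theorem exists_triData {K : Type*} [Field K] [Fintype K] {q : ℕ} (hq : IsPrimePow q)
    (hK : Fintype.card K = q ^ 3) : Nonempty (TriData K q) := by
  obtain ⟨f, hf, hit, hk⟩ := exists_frobQ hq (by norm_num : (3 : ℕ) ≠ 0)
    (show Nat.card K = q ^ 3 by rw [Nat.card_eq_fintype_card, hK])
  exact ⟨⟨f, hq, hK, hf, twistedD4_eq_fixed hK hq hf hit hk⟩⟩

variable {K : Type*} [Field K] [Fintype K] {q : ℕ} (X : TriData K q)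
include X

theorem mem_iff {g : GL chevD4.Idx K} :
    g ∈ Cfsg.Lie.twistedD4 K q ↔ g ∈ chevD4.group K ∧ twSigma symOKD4_tri X.f g = g := by
  rw [X.eq_fixed]; exact Iff.rfl

theorem le_group : Cfsg.Lie.twistedD4 K q ≤ chevD4.group K := fun _ hg => ((mem_iff X).1 hg).1

theorem frob_omega (hq3 : q % 3 = 1) {ω : Kˣ} (hω : ω ^ 3 = 1) : X.f (ω : K) = ω := by
  rw [X.pow, ← Units.val_pow_eq_pow_val, ← Nat.div_add_mod q 3, hq3, pow_add, pow_mul, hω, one_pow, one_mul,
    pow_one]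

theorem chr_fixed {c : Fin chevD4.rank → Kˣ} (h : torusHom chevD4 tblD4 K c ∈ Cfsg.Lie.twistedD4 K q) {r : ℕ}
    (hr : r < chevD4.nroots) :
    chr tblD4 chevD4 (extend' c) (symD4_3.root r) = X.f (chr tblD4 chevD4 (extend' c) r) := by
  have h2 := ((mem_iff X).1 h).2
  rw [twSigma_torus certD4C symOKD4_tri] at h2
  rw [← chr_eq_of_torusHom certD4C h2 (symOKD4_tri.root_lt r hr), twPar_chr certD4C symOKD4_tri X.f c hr]

omit X in
theorem zpow_mod_three {ω : Kˣ} (h : ω ^ 3 = 1) (n : ℤ) : (ω : K) ^ n = (ω : K) ^ (n % 3) := by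
  rw [← Units.val_zpow_eq_zpow_val, ← Units.val_zpow_eq_zpow_val, zpow_eq_zpow_emod' n h]
  rfl

/-- The fixed torus elements of order dividing three. -/
theorem torus_three (hq3 : q % 3 = 1) {ω : Kˣ} (hω : orderOf ω = 3) {x : GL chevD4.Idx K}
    (hxd : x ∈ chevD4.diagonalSubgroup K) (hxG : x ∈ Cfsg.Lie.twistedD4 K q) (hx3 : x ^ 3 = 1) :
    ∃ c i j, x = torusHom chevD4 tblD4 K c ∧ i < 3 ∧ j < 3 ∧ ∀ r < chevD4.nroots,
      chr tblD4 chevD4 (extend' c) r = ((ω : K) ^ (((coeff r 0 + coeff r 2 + coeff r 3) * (i : ℕ) +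
        coeff r 1 * (j : ℕ) : ℤ) % 3)) := by
  classical
  have hω3 : ω ^ 3 = 1 := hω ▸ pow_orderOf_eq_one ω
  rw [← torusHom_range certD4C] at hxd
  obtain ⟨c, rfl⟩ := hxd
  have hval : ∀ r < chevD4.nroots, ∃ i, i < 3 ∧ chr tblD4 chevD4 (extend' c) r = (ω : K) ^ i := by
    intro r hr
    have h3 : chr tblD4 chevD4 (extend' c) r ^ 3 = 1 := by
      rw [← chr_pow', chr_eq_of_torusHom certD4C (show torusHom chevD4 tblD4 K (c ^ 3) =
        torusHom chevD4 tblD4 K 1 by rw [map_pow, hx3, map_one]) hr]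
      simp [chr, extend']
    have hne := chr_ne_zero' certD4C c r
    have hmem : Units.mk0 _ hne ∈ Subgroup.zpowers ω := by
      have hprim : IsPrimitiveRoot ω 3 := hω ▸ IsPrimitiveRoot.orderOf ω
      haveI : NeZero 3 := ⟨by norm_num⟩
      rw [hprim.zpowers_eq, mem_rootsOfUnity]
      exact Units.ext (by simpa using h3)
    obtain ⟨i, hi, e⟩ := Finset.mem_image.1 ((IsOfFinOrder.mem_zpowers_iff_mem_range_orderOf
      (orderOf_pos_iff.1 (by rw [hω]; norm_num))).1 hmem)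
    refine ⟨i, by rwa [hω, Finset.mem_range] at hi, ?_⟩
    have := congrArg Units.val e
    simpa using this.symm
  have hsimp : tblD4.simp' 0 = 18 ∧ tblD4.simp' 1 = 14 ∧ tblD4.simp' 2 = 13 ∧ tblD4.simp' 3 = 12 := by
    decide +kernel
  obtain ⟨i, hi, ei⟩ := hval 18 (by decide)
  obtain ⟨j, hj, ej⟩ := hval 14 (by decide)
  refine ⟨c, i, j, rfl, hi, hj, fun r hr => ?_⟩
  have hf : ∀ r < chevD4.nroots, X.f (chr tblD4 chevD4 (extend' c) r) = chr tblD4 chevD4 (extend' c) r := by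
    intro r hr
    obtain ⟨k, -, e⟩ := hval r hr
    rw [e, map_pow, frob_omega X hq3 hω3]
  have e13 : chr tblD4 chevD4 (extend' c) 13 = (ω : K) ^ i := by
    rw [← show symD4_3.root 18 = 13 by decide +kernel, chr_fixed X hxG (by decide), hf _ (by decide), ei]
  have e12 : chr tblD4 chevD4 (extend' c) 12 = (ω : K) ^ i := by
    rw [← show symD4_3.root 13 = 12 by decide +kernel, chr_fixed X hxG (by decide), hf _ (by decide), e13]
  rw [chr_coeff c hr, hsimp.1, hsimp.2.1, hsimp.2.2.1, hsimp.2.2.2, ei, ej, e13, e12,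
    ← zpow_natCast (ω : K) i, ← zpow_natCast (ω : K) j, ← zpow_mul, ← zpow_mul, ← zpow_mul, ← zpow_mul,
    ← zpow_add₀ ω.ne_zero, ← zpow_add₀ ω.ne_zero, ← zpow_add₀ ω.ne_zero]
  have hw : (ω : K) ^ 3 = 1 := by rw [← Units.val_pow_eq_pow_val, hω3, Units.val_one]
  conv_lhs => rw [zpow_mod_three hω3]
  congr 2
  ring

omit X in
/-- The elements with a single index are powers of the long element. -/
theorem eq_zElt_pow {ω : Kˣ} (hω : orderOf ω = 3) {c : Fin chevD4.rank → Kˣ} {i : ℕ}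
    (h : ∀ r < chevD4.nroots, chr tblD4 chevD4 (extend' c) r = ((ω : K) ^ (((coeff r 0 + coeff r 2 + coeff r 3) * i +
      coeff r 1 * ((0 : ℕ) : ℤ) : ℤ) % 3))) :
    torusHom chevD4 tblD4 K c = zElt ω ^ i := by
  have hω3 : ω ^ 3 = 1 := hω ▸ pow_orderOf_eq_one ω
  rw [zElt, ← map_pow]
  refine torus_ext fun k hk => ?_
  have hk' := certD4C.spec.simp_lt k hk
  rw [h _ hk', chr_pow' (T := tblD4), chr_zc hω3 hk', ← Units.val_pow_eq_pow_val]
  have hd : ∀ k < 4, coeff (tblD4.simp' k) 0 + coeff (tblD4.simp' k) 2 + coeff (tblD4.simp' k) 3 =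
      res (tblD4.simp' k) := by decide +kernel
  have hw : (ω : K) ^ 3 = 1 := by rw [← Units.val_pow_eq_pow_val, hω3, Units.val_one]
  rw [hd k hk, Units.val_pow_eq_pow_val, Units.val_pow_eq_pow_val, ← pow_mul, ← zpow_natCast,
    zpow_mod_three hω3 ((res (tblD4.simp' k) * i : ℕ) : ℤ)]
  congr 1
  push_cast
  ring

omit X in
/-- A word commuting with the symmetry on the fundamental roots. -/
def StabTau (u : List ℕ) : Prop :=
  ∀ k < chevD4.rank, wperm tblD4 (u.map twD4.node) (tblD4.simp' k) = wperm tblD4 u (tblD4.simp' k)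

omit X in
instance (u : List ℕ) : Decidable (StabTau u) := inferInstanceAs (Decidable (∀ k < chevD4.rank, _))

omit X in
/-- A word of order three. -/
def IsThree (u : List ℕ) : Prop :=
  (∀ k < chevD4.rank, wperm tblD4 (List.replicate 3 u).flatten (tblD4.simp' k) = tblD4.simp' k) ∧
    ¬∀ k < chevD4.rank, wperm tblD4 u (tblD4.simp' k) = tblD4.simp' k

omit X in
instance (u : List ℕ) : Decidable (IsThree u) := inferInstanceAs (Decidable (_ ∧ _))

omit X in
theorem stab_six : ∀ u ∈ allW (nth ([], []) weylD4) chevD4.rank, StabTau u →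
    ∀ k < chevD4.rank, wperm tblD4 (List.replicate 6 u).flatten (tblD4.simp' k) = tblD4.simp' k := by
  decide +kernel

omit X in
theorem stab_res : ∀ u ∈ allW (nth ([], []) weylD4) chevD4.rank, StabTau u →
    (∀ k < chevD4.rank, res (wperm tblD4 u (tblD4.simp' k)) = res (tblD4.simp' k)) ∨
      ∀ k < chevD4.rank, res (wperm tblD4 u (tblD4.simp' k)) = 2 * res (tblD4.simp' k) % 3 := by
  decide +kernel

omit X in
theorem three_rot : ∀ u ∈ allW (nth ([], []) weylD4) chevD4.rank, StabTau u → IsThree u →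
    (∀ k < chevD4.rank, wperm tblD4 rotWord (tblD4.simp' k) = wperm tblD4 u (tblD4.simp' k)) ∨
      ∀ k < chevD4.rank, wperm tblD4 rotWord (tblD4.simp' k) = wperm tblD4 (u ++ u) (tblD4.simp' k) := by
  decide +kernel

omit X in
theorem three_fixed : ∀ u ∈ allW (nth ([], []) weylD4) chevD4.rank, StabTau u → IsThree u →
    ∀ i : ℕ, i < 3 → ∀ j : ℕ, j < 3 →
      (∀ s < chevD4.nroots,
        ((coeff (wperm tblD4 u s) 0 + coeff (wperm tblD4 u s) 2 + coeff (wperm tblD4 u s) 3) * (i : ℤ) +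
            coeff (wperm tblD4 u s) 1 * (j : ℤ)) % 3 =
          ((coeff s 0 + coeff s 2 + coeff s 3) * (i : ℤ) + coeff s 1 * (j : ℤ)) % 3) → j = 0 := by
  decide +kernel

omit X in
theorem three_pair : ∀ u ∈ allW (nth ([], []) weylD4) chevD4.rank, StabTau u → IsThree u →
    ∀ v ∈ allW (nth ([], []) weylD4) chevD4.rank, StabTau v → IsThree v →
      (∀ k < chevD4.rank, wperm tblD4 (u ++ v) (tblD4.simp' k) = tblD4.simp' k) ∨
        ∀ k < chevD4.rank, wperm tblD4 (u ++ v ++ v) (tblD4.simp' k) = tblD4.simp' k := by decide +kernel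

omit X in
theorem rot_three : IsThree rotWord := by decide +kernel

/-- A fixed monomial element has a word commuting with the symmetry. -/
theorem monomial_fixed_word {n : GL chevD4.Idx K} (hn : n ∈ chevD4.monomialSubgroup K)
    (hnG : n ∈ Cfsg.Lie.twistedD4 K q) :
    ∃ u ∈ allW (nth ([], []) weylD4) chevD4.rank, StabTau u ∧ IsWord chevD4 u ∧
      ∃ d ∈ chevD4.diagonalSubgroup K, n = wnu certD4C K u * d := by
  obtain ⟨u, hu, huw, d, hd, rfl⟩ := G2Alt.monomial_word certD4C fullCertD4 chkWeylD4 hn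
  refine ⟨u, hu, ?_, huw, d, hd, rfl⟩
  set h := twSimplyD4.twOK certD4C symOKD4_tri X.f fullCertD4 twCombD4
  have h2 : twSigma symOKD4_tri X.f (wnu certD4C K u * d) = wnu certD4C K u * d := ((mem_iff X).1 hnG).2
  rw [h.map_mul _ (wnu_mem_group certD4C huw) _ (diag_le_group certD4C hd),
    h.map_wnu certD4C huw] at h2
  have hmap : IsWord chevD4 (u.map twD4.node) := twCombD4.map_node_word huw
  intro k hk
  refine perm_of_same certD4C (F := K) hmap huw ?_ (certD4C.spec.simp_lt k hk)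
  have := mul_mem (h.map_diag d hd) (inv_mem hd)
  rw [show (wnu certD4C K (u.map twD4.node))⁻¹ * wnu certD4C K u =
    twSigma symOKD4_tri X.f d * d⁻¹ by
      rw [inv_mul_eq_iff_eq_mul, ← mul_assoc, h2, mul_inv_cancel_right]]
  exact this

/-- The torus inside the group. -/
def torusIn (_ : TriData K q) : Subgroup ↥(Cfsg.Lie.twistedD4 K q) :=
  (chevD4.diagonalSubgroup K).subgroupOf (Cfsg.Lie.twistedD4 K q)

/-- The monomial subgroup inside the group. -/
def monIn (_ : TriData K q) : Subgroup ↥(Cfsg.Lie.twistedD4 K q) :=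
  (chevD4.monomialSubgroup K).subgroupOf (Cfsg.Lie.twistedD4 K q)

theorem torus_index :
    (torusIn X).index = q ^ 12 * ((q + 1) * (q ^ 3 + 1) * (q ^ 8 + q ^ 4 + 1)) := by
  have hq2 : 2 ≤ q := X.prim.two_le
  obtain ⟨f', h', e', -, hd, -, -⟩ := twistedD4_facts X.prim X.card
  rw [← e'] at hd
  have hT : Nat.card (torusIn X) = (q - 1) * (q ^ 3 - 1) := by
    rw [← hd]
    exact Nat.card_congr ((MulEquiv.subgroupCongr (Subgroup.inf_subgroupOf_right _ _).symm).trans
      (Subgroup.subgroupOfEquivOfLe inf_le_right)).toEquiv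
  have h := (torusIn X).card_mul_index
  rw [hT, twistedD4_order X.prim X.card] at h
  have h1 : 1 ≤ q ^ 2 := Nat.one_le_pow _ _ (by omega)
  have h3 : 1 < q ^ 3 := Nat.one_lt_pow (by norm_num) (by omega)
  have h6 : 1 ≤ q ^ 6 := Nat.one_le_pow _ _ (by omega)
  refine Nat.eq_of_mul_eq_mul_left (Nat.mul_pos (show 0 < q - 1 by omega) (show 0 < q ^ 3 - 1 by omega)) ?_
  rw [h]
  zify [h1, h6, h3.le, show 1 ≤ q by omega]
  ring

theorem rot0_mem : rot0 K ∈ Cfsg.Lie.twistedD4 K q := by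
  refine (mem_iff X).2 ⟨mul_mem (ng_mem_group certD4C _ _) (ng_mem_group certD4C _ _), ?_⟩
  rw [twSigma, rot0, map_mul, map_ng, map_ng, map_one]
  exact tau_rot0

omit X in
theorem rot0_monomial : rot0 K ∈ chevD4.monomialSubgroup K := by
  obtain ⟨d, hd, e⟩ := rot0_eq (F := K)
  rw [e]
  exact mul_mem (wnu_mem certD4C rotWord_isWord) (diag_le_monomial certD4C hd)

theorem mon_index (hq3 : q % 3 = 1) : ¬ 3 ∣ (monIn X).index := by
  classical
  haveI : Fact (Nat.Prime 3) := ⟨Nat.prime_three⟩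
  have hle : torusIn X ≤ monIn X := fun x hx => diag_le_monomial certD4C hx
  have hrel : 3 ∣ (torusIn X).relIndex (monIn X) := by
    let T' := (torusIn X).subgroupOf (monIn X)
    haveI hn : T'.Normal := ⟨fun x hx g => (conj_mem_diag certD4C g.2 hx).1⟩
    let x : ↥(monIn X) := ⟨⟨rot0 K, rot0_mem X⟩, rot0_monomial⟩
    obtain ⟨d, hd, e⟩ := rot0_eq (F := K)
    have h3 : (x : ↥(monIn X) ⧸ T') ^ 3 = 1 := by
      rw [← QuotientGroup.mk_pow, QuotientGroup.eq_one_iff]
      show (rot0 K) ^ 3 ∈ chevD4.diagonalSubgroup K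
      obtain ⟨hw, d', hd', he⟩ := G2Alt.monomial_pow certD4C rotWord_isWord hd 3
      rw [e, he]
      exact mul_mem (G2Alt.wnu_mem_diag certD4C fullCertD4 hw rot_three.1) hd'
    have h1 : (x : ↥(monIn X) ⧸ T') ≠ 1 := by
      rw [Ne, QuotientGroup.eq_one_iff]
      intro h
      refine rot_three.2 fun k hk => ?_
      have hmem : (wnu certD4C K [])⁻¹ * wnu certD4C K rotWord ∈ chevD4.diagonalSubgroup K := by
        rw [show wnu certD4C K ([] : List ℕ) = 1 by simp [wnu], inv_one, one_mul]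
        have h' : rot0 K ∈ chevD4.diagonalSubgroup K := h
        rw [e] at h'
        simpa using mul_mem h' (inv_mem hd)
      exact (perm_of_same certD4C (fun i hi => absurd hi List.not_mem_nil) rotWord_isWord hmem
        (certD4C.spec.simp_lt k hk)).symm
    have := orderOf_dvd_natCard (x : ↥(monIn X) ⧸ T')
    rwa [orderOf_eq_prime h3 h1] at this
  intro h
  have h9 : 9 ∣ (torusIn X).index := by
    rw [← Subgroup.relIndex_mul_index hle, show (9 : ℕ) = 3 * 3 by norm_num]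
    exact mul_dvd_mul hrel h
  rw [torus_index] at h9
  have h0 := Nat.mod_eq_zero_of_dvd h9
  rcases (show q % 9 = 1 ∨ q % 9 = 4 ∨ q % 9 = 7 by omega) with h | h | h <;>
    simp [Nat.mul_mod, Nat.pow_mod, h, Nat.add_mod] at h0

theorem conj_into_mon (hq3 : q % 3 = 1) {P : Subgroup ↥(Cfsg.Lie.twistedD4 K q)} (hP : IsPGroup 3 P) :
    ∃ t : ↥(Cfsg.Lie.twistedD4 K q), ∀ p ∈ P, t⁻¹ * p * t ∈ monIn X := by
  haveI : Fact (Nat.Prime 3) := ⟨Nat.prime_three⟩
  obtain ⟨t, ht⟩ : (MulAction.fixedPoints P (↥(Cfsg.Lie.twistedD4 K q) ⧸ monIn X)).Nonempty :=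
    hP.nonempty_fixed_point_of_prime_not_dvd_card _ (by
      rw [← Subgroup.index_eq_card]; exact mon_index X hq3)
  induction t using QuotientGroup.induction_on with
  | H t =>
  exact ⟨t, fun p hp => by simpa [mul_assoc] using QuotientGroup.eq.mp (ht ⟨p, hp⟩).symm⟩

theorem outside_cube {x : GL chevD4.Idx K} (hx : x ∈ chevD4.monomialSubgroup K)
    (hxG : x ∈ Cfsg.Lie.twistedD4 K q) {k : ℕ} (hk : x ^ 3 ^ k = 1) :
    x ^ 3 ∈ chevD4.diagonalSubgroup K := by
  obtain ⟨u, hu, hst, huw, d, hd, rfl⟩ := monomial_fixed_word X hx hxG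
  have h6 : (wnu certD4C K u * d) ^ 6 ∈ chevD4.diagonalSubgroup K := by
    obtain ⟨hw, d', hd', he⟩ := G2Alt.monomial_pow certD4C huw hd 6
    rw [he]
    exact mul_mem (G2Alt.wnu_mem_diag certD4C fullCertD4 hw (stab_six u hu hst)) hd'
  set y := wnu certD4C K u * d
  rcases k with - | k
  · rw [pow_zero, pow_one] at hk
    rw [hk, one_pow]
    exact one_mem _
  have hb := Nat.gcd_eq_gcd_ab 6 (3 ^ (k + 1))
  have hg : Nat.gcd 6 (3 ^ (k + 1)) = 3 := by
    rw [pow_succ, show (6 : ℕ) = 2 * 3 by norm_num, Nat.gcd_mul_right,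
      Nat.Coprime.pow_right k (by norm_num : Nat.Coprime 2 3), one_mul]
  rw [hg] at hb
  rw [← zpow_natCast, hb, zpow_add, zpow_mul, zpow_mul, zpow_natCast, zpow_natCast, hk, one_zpow, mul_one]
  exact zpow_mem h6 _

theorem outside_word {x : GL chevD4.Idx K} (hx : x ∈ chevD4.monomialSubgroup K)
    (hxG : x ∈ Cfsg.Lie.twistedD4 K q) (hx3 : x ^ 3 ∈ chevD4.diagonalSubgroup K)
    (hxT : x ∉ chevD4.diagonalSubgroup K) :
    ∃ u ∈ allW (nth ([], []) weylD4) chevD4.rank, StabTau u ∧ IsWord chevD4 u ∧ IsThree u ∧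
      ∃ d ∈ chevD4.diagonalSubgroup K, x = wnu certD4C K u * d := by
  obtain ⟨u, hu, hst, huw, d, hd, rfl⟩ := monomial_fixed_word X hx hxG
  refine ⟨u, hu, hst, huw, ?_, d, hd, rfl⟩
  obtain ⟨hw, d', hd', he⟩ := G2Alt.monomial_pow certD4C huw hd 3
  refine ⟨fun k hk => ?_, fun h => hxT (mul_mem (G2Alt.wnu_mem_diag certD4C fullCertD4 huw h) hd)⟩
  have hmem : (wnu certD4C K [])⁻¹ * wnu certD4C K (List.replicate 3 u).flatten ∈
      chevD4.diagonalSubgroup K := by
    rw [show wnu certD4C K ([] : List ℕ) = 1 by simp [wnu], inv_one, one_mul]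
    rw [he] at hx3
    simpa [mul_assoc] using mul_mem hx3 (inv_mem hd')
  exact (perm_of_same certD4C (fun i hi => absurd hi List.not_mem_nil) hw hmem
    (certD4C.spec.simp_lt k hk)).symm

/-- Two three-elements outside the torus agree modulo the torus up to inversion. -/
theorem outside_pair {x y : GL chevD4.Idx K} (hx : x ∈ chevD4.monomialSubgroup K)
    (hxG : x ∈ Cfsg.Lie.twistedD4 K q) (hy : y ∈ chevD4.monomialSubgroup K)
    (hyG : y ∈ Cfsg.Lie.twistedD4 K q) (hx3 : x ^ 3 ∈ chevD4.diagonalSubgroup K)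
    (hy3 : y ^ 3 ∈ chevD4.diagonalSubgroup K) (hxT : x ∉ chevD4.diagonalSubgroup K)
    (hyT : y ∉ chevD4.diagonalSubgroup K) :
    x * y ∈ chevD4.diagonalSubgroup K ∨ x * y * y ∈ chevD4.diagonalSubgroup K := by
  obtain ⟨u, hu, hus, huw, hu3, d, hd, rfl⟩ := outside_word X hx hxG hx3 hxT
  obtain ⟨v, hv, hvs, hvw, hv3, e, he, rfl⟩ := outside_word X hy hyG hy3 hyT
  rcases three_pair u hu hus hu3 v hv hvs hv3 with h | h
  · left
    rw [show wnu certD4C K u * d * (wnu certD4C K v * e) =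
      wnu certD4C K (u ++ v) * (((wnu certD4C K v)⁻¹ * d * wnu certD4C K v) * e) by rw [wnu_append]; group]
    exact mul_mem (G2Alt.wnu_mem_diag certD4C fullCertD4 (huw.append hvw) h)
      (mul_mem (conj_mem_diag certD4C (wnu_mem certD4C hvw) hd).2 he)
  · right
    rw [show wnu certD4C K u * d * (wnu certD4C K v * e) * (wnu certD4C K v * e) =
      wnu certD4C K (u ++ v ++ v) * ((wnu certD4C K v)⁻¹ * (((wnu certD4C K v)⁻¹ * d * wnu certD4C K v) * e) *
        wnu certD4C K v * e) by rw [wnu_append, wnu_append]; group]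
    exact mul_mem (G2Alt.wnu_mem_diag certD4C fullCertD4 ((huw.append hvw).append hvw) h)
      (mul_mem (conj_mem_diag certD4C (wnu_mem certD4C hvw)
        (mul_mem (conj_mem_diag certD4C (wnu_mem certD4C hvw) hd).2 he)).2 he)

end Cfsg.Lib.Chev.TriAlt
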