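import Cfsg.Agent.Lib.Chev.TriAlt.Fixed
import Cfsg.Agent.Lib.Chev.TwTorusFusion
import Cfsg.Agent.Lib.Chev.G2Alt.Cover
import Cfsg.Agent.Lib.Chev.G2Alt.Fusion

/-!
Alternating sections of the triality-twisted groups.
-/

set_option autoImplicit false
set_option linter.unusedSectionVars false
set_option maxRecDepth 100000

namespace Cfsg.Lib.Chev.TriAlt

open Cfsg.Lie
open scoped Matrix

variable {K : Type*} [Field K] [Fintype K] {q : ℕ} (X : TriData K q)
include X

theorem exists_omega' (hq3 : q % 3 = 1) : ∃ ω : Kˣ, orderOf ω = 3 := by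
  classical
  haveI : Fact (Nat.Prime 3) := ⟨Nat.prime_three⟩
  refine exists_prime_orderOf_dvd_card 3 ?_
  rw [Fintype.card_units, X.card]
  have h : q ^ 3 % 3 = 1 := by rw [Nat.pow_mod, hq3]
  omega

theorem fusion_word {g : GL chevD4.Idx K} (hg : g ∈ Cfsg.Lie.twistedD4 K q) :
    ∃ u ∈ allW (nth ([], []) weylD4) chevD4.rank, StabTau u ∧ IsWord chevD4 u ∧
      ∃ d ∈ chevD4.diagonalSubgroup K, ∀ x ∈ chevD4.diagonalSubgroup K,
        g * x * g⁻¹ ∈ chevD4.diagonalSubgroup K →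
          g * x * g⁻¹ = (wnu certD4C K u * d) * x * (wnu certD4C K u * d)⁻¹ := by
  obtain ⟨n, hn, hfus⟩ := (twSimplyD4.twOK certD4C symOKD4_tri X.f fullCertD4 twCombD4).torus_fusion
    certD4C fullCertD4 twCombD4 (X.eq_fixed ▸ hg)
  obtain ⟨u, hu, hst, huw, d, hd, rfl⟩ := monomial_fixed_word X hn.1 (X.eq_fixed ▸ hn.2)
  exact ⟨u, hu, hst, huw, d, hd, hfus⟩

theorem no_five (hq : q % 5 = 1) {H A : Type*} [Group H] [Finite H] [Group A]
    (φ : H →* ↥(Cfsg.Lie.twistedD4 K q)) (hφ : Function.Injective φ) (π : H →* A) (hπ : Function.Surjective π)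
    {a s : A} (ha : orderOf a = 5) (hs : s * a * s⁻¹ = a ^ 2) : False := by
  haveI : Fact (Nat.Prime 5) := ⟨by norm_num⟩
  classical
  refine G2Alt.no_fusion_section (torusIn X) (ℓ := 5) ?_ (m := 6) ?_ φ hφ π hπ ha hs (by norm_num) (by norm_num)
  · rw [torus_index]
    intro h
    have h0 := Nat.mod_eq_zero_of_dvd h
    simp [Nat.mul_mod, Nat.pow_mod, hq, Nat.add_mod] at h0
  intro g x hall
  obtain ⟨u, hu, hst, huw, d, hd, hfus⟩ := fusion_word X g.2
  set n := wnu certD4C K u * d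
  have hx : ∀ i : ℕ, ((g ^ i * x * (g ^ i)⁻¹ : ↥(Cfsg.Lie.twistedD4 K q)) : GL chevD4.Idx K) =
      n ^ i * x * (n ^ i)⁻¹ := by
    intro i
    induction i with
    | zero => simp
    | succ i ih =>
      have h1 : ((g ^ i * x * (g ^ i)⁻¹ : ↥(Cfsg.Lie.twistedD4 K q)) : GL chevD4.Idx K) ∈
          chevD4.diagonalSubgroup K := hall i
      have h2 : ((g ^ (i + 1) * x * (g ^ (i + 1))⁻¹ : ↥(Cfsg.Lie.twistedD4 K q)) : GL chevD4.Idx K) ∈
          chevD4.diagonalSubgroup K := hall (i + 1)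
      rw [show g ^ (i + 1) * x * (g ^ (i + 1))⁻¹ = g * (g ^ i * x * (g ^ i)⁻¹) * g⁻¹ by
        rw [pow_succ']; group, Subgroup.coe_mul, Subgroup.coe_mul, Subgroup.coe_inv] at h2 ⊢
      rw [hfus _ h1 h2, ih, pow_succ']
      group
  obtain ⟨hw, d', hd', he⟩ := G2Alt.monomial_pow certD4C huw hd 6
  have hnm : n ^ 6 ∈ chevD4.diagonalSubgroup K := by
    rw [he]; exact mul_mem (G2Alt.wnu_mem_diag certD4C fullCertD4 hw (stab_six u hu hst)) hd'
  have hx0 : (x : GL chevD4.Idx K) ∈ chevD4.diagonalSubgroup K :=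
    Subgroup.mem_subgroupOf.1 (by simpa [torusIn] using hall 0)
  apply Subtype.ext
  rw [hx 6, G2Alt.diag_commute certD4C hnm hx0, mul_inv_cancel_right]

theorem frattini_bound (hq : q % 3 = 1) (P : Subgroup ↥(Cfsg.Lie.twistedD4 K q)) (hP : IsPGroup 3 P) :
    (frattini P).index ≤ 27 := by
  classical
  haveI : Fact (Nat.Prime 3) := ⟨Nat.prime_three⟩
  obtain ⟨ω, hω⟩ := exists_omega' X hq
  obtain ⟨t, ht⟩ := conj_into_mon X hq hP
  let c : ↥P →* GL chevD4.Idx K :=
    (Cfsg.Lie.twistedD4 K q).subtype.comp ((MulAut.conj t⁻¹).toMonoidHom.comp P.subtype)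
  have hcM : ∀ p, c p ∈ chevD4.monomialSubgroup K := fun p => by
    have := ht p p.2
    simpa [c] using Subgroup.mem_subgroupOf.mp this
  have hcG : ∀ p, c p ∈ Cfsg.Lie.twistedD4 K q := fun p => SetLike.coe_mem _
  have hcinj : Function.Injective c := fun x y h =>
    Subtype.ext ((MulAut.conj t⁻¹).injective (Subtype.ext h))
  let A : Subgroup ↥P := (chevD4.diagonalSubgroup K).comap c
  have hAn : A.Normal := ⟨fun x hx g => by
    show c (g * x * g⁻¹) ∈ chevD4.diagonalSubgroup K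
    rw [map_mul, map_mul, map_inv]
    exact (conj_mem_diag certD4C (hcM g) hx).1⟩
  have hcube : ∀ p, c p ^ 3 ∈ chevD4.diagonalSubgroup K := fun p => by
    obtain ⟨k, hk⟩ := hP p
    exact outside_cube X (hcM p) (hcG p) (k := k) (by rw [← map_pow, hk, map_one])
  have hA3 : A.index ≤ 3 := by
    by_cases htop : A = ⊤
    · rw [htop, Subgroup.index_top]; norm_num
    obtain ⟨x, hx⟩ : ∃ x, x ∉ A := by
      by_contra h
      push Not at h
      exact htop (eq_top_iff.2 fun x _ => h x)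
    rw [Subgroup.index_eq_card]
    refine (Nat.card_le_card_of_surjective (fun i : Fin 3 => ((x ^ i.val : ↥P) : ↥P ⧸ A)) ?_).trans
      (by rw [Nat.card_fin])
    intro q
    induction q using QuotientGroup.induction_on with
    | H y =>
      by_cases hy : y ∈ A
      · exact ⟨0, by rw [QuotientGroup.eq]; simpa using hy⟩
      rcases outside_pair X (hcM x) (hcG x) (hcM y) (hcG y) (hcube x) (hcube y) hx hy with h | h
      · refine ⟨2, ?_⟩
        have hxy : x * y ∈ A := by show c (x * y) ∈ chevD4.diagonalSubgroup K; rw [map_mul]; exact h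
        have hx3 : x ^ 3 ∈ A := by show c (x ^ 3) ∈ chevD4.diagonalSubgroup K; rw [map_pow]; exact hcube x
        rw [QuotientGroup.eq]
        show (x ^ 2)⁻¹ * y ∈ A
        rw [show (x ^ 2)⁻¹ * y = (x ^ 3)⁻¹ * (x * y) by group]
        exact mul_mem (inv_mem hx3) hxy
      · refine ⟨1, ?_⟩
        have hxy : x * y * y ∈ A := by
          show c (x * y * y) ∈ chevD4.diagonalSubgroup K; rw [map_mul, map_mul]; exact h
        have hy3 : y ^ 3 ∈ A := by show c (y ^ 3) ∈ chevD4.diagonalSubgroup K; rw [map_pow]; exact hcube y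
        rw [QuotientGroup.eq]
        show (x ^ 1)⁻¹ * y ∈ A
        have h2 : x * y⁻¹ ∈ A := by
          rw [show x * y⁻¹ = x * y * y * (y ^ 3)⁻¹ by group]; exact mul_mem hxy (inv_mem hy3)
        have h4 := inv_mem (hAn.conj_mem _ h2 x⁻¹)
        rw [show (x⁻¹ * (x * y⁻¹) * x⁻¹⁻¹)⁻¹ = x⁻¹ * y by group] at h4
        rwa [pow_one]
  letI : CommGroup ↥A :=
    { (inferInstance : Group ↥A) with
      mul_comm := fun a b => Subtype.ext (hcinj (by
        rw [Subgroup.coe_mul, Subgroup.coe_mul, map_mul, map_mul, G2Alt.diag_commute certD4C a.2 b.2])) }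
  let cb : ↥A →* ↥A := powMonoidHom 3
  have hk9 : Nat.card cb.ker ≤ 9 := by
    have key : ∀ x : cb.ker, ∃ (p : Fin 3 × Fin 3) (d : Fin chevD4.rank → Kˣ),
        c ((x : ↥A) : ↥P) = torusHom chevD4 tblD4 K d ∧ ∀ r < chevD4.nroots,
          chr tblD4 chevD4 (extend' d) r = ((ω : K) ^ (((coeff r 0 + coeff r 2 + coeff r 3) * (p.1.val : ℕ) +
            coeff r 1 * (p.2.val : ℕ) : ℤ) % 3)) := by
      intro x
      obtain ⟨d, i, j, h, hi, hj, hchr⟩ := torus_three X hq hω (x : ↥A).2 (hcG _) (by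
        rw [← map_pow, ← Subgroup.coe_pow, show (x : ↥A) ^ 3 = 1 from x.2, Subgroup.coe_one, map_one])
      exact ⟨(⟨i, hi⟩, ⟨j, hj⟩), d, h, hchr⟩
    choose g d hg hchr using key
    refine (Nat.card_le_card_of_injective g fun x y h => ?_).trans (by simp)
    refine Subtype.ext (Subtype.ext (hcinj ?_))
    rw [hg, hg]
    exact torusHom_congr fun r hr => by rw [hchr x r hr, hchr y r hr, h]
  have hle : (cb.range.map A.subtype) ≤ frattini P := by
    rintro _ ⟨_, ⟨a, rfl⟩, rfl⟩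
    exact Cfsg.Lib.PGroup.pow_mem_frattini hP _
  refine le_trans (Nat.le_of_dvd (Nat.pos_of_ne_zero Subgroup.index_ne_zero_of_finite)
    (Subgroup.index_dvd_of_le hle)) ?_
  rw [Subgroup.index_map_of_injective _ A.subtype_injective, Subgroup.range_subtype]
  have hidx : cb.range.index = Nat.card cb.ker := by
    have h1 := cb.range.card_mul_index
    have h2 := cb.ker.card_mul_index
    rw [Subgroup.index_ker] at h2
    rw [← h2, mul_comm (Nat.card cb.ker)] at h1
    exact Nat.eq_of_mul_eq_mul_left Nat.card_pos h1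
  rw [hidx]
  calc Nat.card cb.ker * A.index ≤ 9 * 3 := Nat.mul_le_mul hk9 hA3
    _ = 27 := by norm_num

omit X in
theorem stab_res' : ∀ u ∈ allW (nth ([], []) weylD4) chevD4.rank, StabTau u →
    (∀ r < chevD4.nroots, res (wperm tblD4 u r) = res r) ∨
      ∀ r < chevD4.nroots, res (wperm tblD4 u r) = 2 * res r % 3 := by
  decide +kernel

omit X in
theorem map_zElt {E : Type*} [Field E] (ι : K →+* E) (ω : Kˣ) :
    Matrix.GeneralLinearGroup.map ι (zElt ω) = zElt (Units.map ι.toMonoidHom ω) := by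
  rw [zElt, zElt, map_torusHom certD4C]
  congr 1
  funext j
  simp

omit X in
theorem map_tau {E : Type*} [Field E] (ι : K →+* E) (x : GL chevD4.Idx K) :
    Matrix.GeneralLinearGroup.map ι (tau K x) = tau E (Matrix.GeneralLinearGroup.map ι x) := by
  rw [← tau_eq, ← tau_eq]
  exact twSigma_map' symOKD4_tri ι _ _ (fun _ => rfl) x

omit X in
theorem map_rot0 {E : Type*} [Field E] (ι : K →+* E) :
    Matrix.GeneralLinearGroup.map ι (rot0 K) = rot0 E := by
  rw [rot0, rot0, map_mul, map_ng, map_ng, map_one]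

omit X in
/-- Every nonzero element is a cube in an extension of degree three. -/
theorem exists_cube {E : Type*} [Field E] [Fintype E] (ι : K →+* E) (hE : Fintype.card E = Fintype.card K ^ 3)
    (h3 : Fintype.card K % 3 = 1) (x : Kˣ) : ∃ y : Eˣ, ((y ^ 3 : Eˣ) : E) = ι x := by
  classical
  obtain ⟨g, hg⟩ := IsCyclic.exists_generator (α := Eˣ)
  obtain ⟨k, hk⟩ := Subgroup.mem_zpowers_iff.1 (hg (Units.map ι.toMonoidHom x))
  obtain ⟨Q, hQ⟩ : ∃ Q, Fintype.card K = Q := ⟨_, rfl⟩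
  have hQ2 : 2 ≤ Q := hQ ▸ Fintype.one_lt_card
  rw [hQ] at h3 hE
  obtain ⟨s, hs⟩ : 3 ∣ Q ^ 2 + Q + 1 := Nat.dvd_of_mod_eq_zero (by
    simp [Nat.add_mod, Nat.pow_mod, h3])
  have hx1 : x ^ (Q - 1) = 1 := by
    have := FiniteField.pow_card_sub_one_eq_one (x : K) x.ne_zero
    rw [hQ] at this
    exact Units.ext (by simpa using this)
  have hord : orderOf g = 3 * ((Q - 1) * s) := by
    rw [orderOf_eq_card_of_forall_mem_zpowers hg, Nat.card_eq_fintype_card, Fintype.card_units, hE]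
    have h1 : 1 ≤ Q ^ 3 := Nat.one_le_pow _ _ (by omega)
    zify [h1, show 1 ≤ Q by omega]
    have hs' : (Q : ℤ) ^ 2 + Q + 1 = 3 * s := by exact_mod_cast hs
    linear_combination ((Q : ℤ) - 1) * hs'
  have h4 : g ^ (k * (((Q - 1) * s : ℕ) : ℤ)) = 1 := by
    rw [zpow_mul, hk, zpow_natCast, ← map_pow, pow_mul, hx1, one_pow, map_one]
  rw [← orderOf_dvd_iff_zpow_eq_one, hord] at h4
  have hne : (((Q - 1) * s : ℕ) : ℤ) ≠ 0 := by
    have : s ≠ 0 := by rintro rfl; omega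
    exact_mod_cast Nat.mul_ne_zero (by omega) this
  rw [Nat.cast_mul] at h4
  obtain ⟨m, rfl⟩ : (3 : ℤ) ∣ k := (mul_dvd_mul_iff_right hne).1 h4
  refine ⟨g ^ m, ?_⟩
  rw [← zpow_natCast, ← zpow_mul, mul_comm]
  show ((g ^ (3 * m) : Eˣ) : E) = _
  rw [hk]
  rfl

/-- A rotated element fixed by the symmetry is not conjugate to the torus element. -/
theorem rot_not_conj {ω : Kˣ} (hω : orderOf ω = 3) (hq : q % 3 = 1) {d g : GL chevD4.Idx K}
    (hd : d ∈ chevD4.diagonalSubgroup K) (hfix : tau K d = d) (hg : g ∈ chevD4.group K) {ω' : Kˣ}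
    (hω' : ω' ^ 3 = 1) : g * zElt ω' * g⁻¹ ≠ rot0 K * d := by
  intro h
  classical
  obtain ⟨p, hchar⟩ := CharP.exists K
  haveI : Fact p.Prime := ⟨CharP.char_is_prime K p⟩
  let E := FiniteField.Extension K p 3
  letI : Fintype E := Fintype.ofFinite E
  let ι : K →+* E := algebraMap K E
  have hE : Fintype.card E = Fintype.card K ^ 3 := by
    rw [Fintype.card_eq_nat_card, FiniteField.natCard_extension, Nat.card_eq_fintype_card]
  have h3 : Fintype.card K % 3 = 1 := by rw [X.card, Nat.pow_mod, hq]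
  set ω₂ := Units.map ι.toMonoidHom ω
  have hω₂ : orderOf ω₂ = 3 := by
    rw [orderOf_injective (Units.map ι.toMonoidHom) (Units.map_injective ι.injective) ω, hω]
  have hω₂' : (Units.map ι.toMonoidHom ω') ^ 3 = 1 := by rw [← map_pow, hω', map_one]
  have hh := congrArg (Matrix.GeneralLinearGroup.map ι) h
  rw [map_mul, map_mul, map_inv, map_zElt, map_mul, map_rot0] at hh
  obtain ⟨c0, hc0⟩ : d ∈ (torusHom chevD4 tblD4 K).range := by rw [torusHom_range certD4C]; exact hd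
  have hdE : Matrix.GeneralLinearGroup.map ι d ∈ chevD4.diagonalSubgroup E := by
    rw [← hc0, map_torusHom certD4C, ← torusHom_range certD4C]; exact ⟨_, rfl⟩
  obtain ⟨g', hg', -, i, he⟩ := conj_fixed hω₂ hdE (by rw [← map_tau, hfix]) (fun c hc => by
    rw [← hc0, map_torusHom certD4C] at hc
    have hv : ∀ r < chevD4.nroots, ∃ u : Kˣ, chr tblD4 chevD4 (extend' c) r = ι u := fun r hr => by
      rw [← chr_eq_of_torusHom certD4C hc hr]
      refine ⟨Units.mk0 _ (chr_ne_zero' certD4C c0 r), ?_⟩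
      simp [chr, extend', show chevD4.rank = 4 from rfl, Finset.prod_range_succ]
    obtain ⟨u, hu⟩ := hv 22 (by decide)
    obtain ⟨v, hv'⟩ := hv 14 (by decide)
    obtain ⟨mu, hmu⟩ := exists_cube ι hE h3 u
    obtain ⟨lam, hlam⟩ := exists_cube ι hE h3 (v * u)
    exact ⟨lam, mu, by rw [hmu, hu], by rw [hlam, hu, hv', Units.val_mul, map_mul]⟩)
  refine not_conj hω₂ hω₂' i (mul_mem hg' (map_group_le certD4C ι hg)) ?_
  rw [← he, ← hh]
  group

/-- No element outside the torus is conjugate to the torus element it commutes with and is inverted. -/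
theorem no_line (hq : q % 3 = 1) {L w r g : GL chevD4.Idx K}
    (hLG : L ∈ Cfsg.Lie.twistedD4 K q) (hwG : w ∈ Cfsg.Lie.twistedD4 K q)
    (hrG : r ∈ Cfsg.Lie.twistedD4 K q) (hgG : g ∈ Cfsg.Lie.twistedD4 K q)
    (hL : L ∈ chevD4.diagonalSubgroup K) (hL3 : L ^ 3 = 1) (hL1 : L ≠ 1)
    (hwM : w ∈ chevD4.monomialSubgroup K) (hwT : w ∉ chevD4.diagonalSubgroup K)
    (hwL : w * L = L * w) (hrL : r * L = L * r) (hrw : r * w * r⁻¹ = w⁻¹) (hgw : g * L * g⁻¹ = w) : False := by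
  classical
  obtain ⟨ω₀, hω₀⟩ := exists_omega' X hq
  have hw₀ : ω₀ ^ 3 = 1 := hω₀ ▸ pow_orderOf_eq_one ω₀
  obtain ⟨c, i, j, hc, hi, hj, hchr⟩ := torus_three X hq hω₀ hL hLG hL3
  have hw3 : w ^ 3 = 1 := by rw [← hgw, conj_pow, hL3, mul_one, mul_inv_cancel]
  obtain ⟨u, hu, hst, huw, hu3, d, hd, hwe⟩ :=
    outside_word X hwM hwG (by rw [hw3]; exact one_mem _) hwT
  have hj0 : j = 0 := by
    refine three_fixed u hu hst hu3 i hi j hj fun s hs => ?_
    obtain ⟨e, he, hech⟩ := torus_word_conj certD4C huw c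
    have hfixL : wnu certD4C K u * L * (wnu certD4C K u)⁻¹ = L := by
      have h : w * L * w⁻¹ = L := by rw [hwL, mul_inv_cancel_right]
      rw [hwe, show ∀ W : GL chevD4.Idx K, W * d * L * (W * d)⁻¹ = W * (d * L * d⁻¹) * W⁻¹ from
        fun W => by group, G2Alt.diag_commute certD4C hd hL, mul_inv_cancel_right] at h
      exact h
    rw [hc, he] at hfixL
    have hp := wperm_lt certD4C huw hs
    have h2 := hech s hs
    rw [chr_eq_of_torusHom certD4C hfixL hp, hchr _ hp, hchr _ hs, ← Units.val_zpow_eq_zpow_val,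
      ← Units.val_zpow_eq_zpow_val, Units.val_inj, zpow_eq_zpow_iff_modEq, hω₀] at h2
    unfold Int.ModEq at h2
    simpa using h2
  subst hj0
  have hLz : L = zElt ω₀ ^ i := hc.trans (eq_zElt_pow hω₀ hchr)
  have hi0 : i ≠ 0 := fun h => hL1 (by rw [hLz, h, pow_zero])
  have hpow : zElt ω₀ ^ i = zElt (ω₀ ^ i) := by
    rw [zElt, zElt, ← map_pow]
    congr 1
    funext k
    simp only [Pi.pow_apply]
    rw [← pow_mul, ← pow_mul, mul_comm]
  obtain ⟨ω, hω, hLω⟩ : ∃ ω : Kˣ, orderOf ω = 3 ∧ L = zElt ω := by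
    refine ⟨ω₀ ^ i, ?_, hLz.trans hpow⟩
    rw [orderOf_pow' _ hi0, hω₀]
    interval_cases i <;> norm_num at * <;> rfl
  have hω3 : ω ^ 3 = 1 := hω ▸ pow_orderOf_eq_one ω
  subst hLω
  have hgr := le_group X
  have hwL' := centralizer_zElt hω (hgr hwG) hwL.symm
  have hrL' := centralizer_zElt hω (hgr hrG) hrL.symm
  have hτ : tau K w = w := tau_fixed_of_inverted hrL' hwL' hw3 hrw
  obtain ⟨v, d₀, ω', hd₀, hv, hτv, hω', hgv⟩ : ∃ (v d₀ : GL chevD4.Idx K) (ω' : Kˣ),
      d₀ ∈ chevD4.diagonalSubgroup K ∧ v = rot0 K * d₀ ∧ tau K v = v ∧ ω' ^ 3 = 1 ∧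
        g * zElt ω' * g⁻¹ = v := by
    obtain ⟨dr, hdr, hrot⟩ := rot0_eq (F := K)
    rcases three_rot u hu hst hu3 with h | h
    · refine ⟨w, dr⁻¹ * (wnu certD4C K rotWord)⁻¹ * w, ω, ?_, by rw [hrot]; group, hτ, hω3, hgw⟩
      rw [mul_assoc, hwe, ← mul_assoc (wnu certD4C K rotWord)⁻¹]
      exact mul_mem (inv_mem hdr) (mul_mem (same_of_perm certD4C fullCertD4 rotWord_isWord huw h) hd)
    · refine ⟨w * w, dr⁻¹ * (wnu certD4C K rotWord)⁻¹ * (w * w), ω ^ 2, ?_, by rw [hrot]; group,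
        by rw [map_mul, hτ], by rw [← pow_mul, mul_comm, pow_mul, hω3, one_pow], ?_⟩
      · rw [mul_assoc, hwe, show wnu certD4C K u * d * (wnu certD4C K u * d) = wnu certD4C K (u ++ u) *
          ((wnu certD4C K u)⁻¹ * d * wnu certD4C K u * d) by rw [wnu_append]; group,
          ← mul_assoc (wnu certD4C K rotWord)⁻¹]
        exact mul_mem (inv_mem hdr) (mul_mem (same_of_perm certD4C fullCertD4 rotWord_isWord (huw.append huw) h)
          (mul_mem (conj_mem_diag certD4C (wnu_mem certD4C huw) hd).2 hd))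
      · have e2 : zElt (ω ^ 2) = zElt ω ^ 2 := by
          rw [zElt, zElt, ← map_pow]
          congr 1
          funext k
          simp only [Pi.pow_apply]
          rw [← pow_mul, ← pow_mul, mul_comm]
        rw [e2, ← hgw, pow_two]
        group
  refine rot_not_conj X hω hq hd₀ ?_ (hgr hgG) hω' (hgv.trans hv)
  rw [hv, map_mul, tau_rot0] at hτv
  exact mul_left_cancel hτv

/-- The torus contains no elementary subgroup of order nine with its normalising element. -/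
theorem no_torus_nine (hq : q % 3 = 1) {a b s : GL chevD4.Idx K} (haG : a ∈ Cfsg.Lie.twistedD4 K q)
    (hbG : b ∈ Cfsg.Lie.twistedD4 K q) (hsG : s ∈ Cfsg.Lie.twistedD4 K q)
    (haT : a ∈ chevD4.diagonalSubgroup K) (hbT : b ∈ chevD4.diagonalSubgroup K) (ha3 : a ^ 3 = 1)
    (hb3 : b ^ 3 = 1) (hsa : s * a * s⁻¹ = b) (hsb : s * b * s⁻¹ = a⁻¹)
    (hinj : Function.Injective fun p : Fin 3 × Fin 3 => a ^ p.1.val * b ^ p.2.val) : False := by
  classical
  obtain ⟨ω, hω⟩ := exists_omega' X hq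
  have hω3 : ω ^ 3 = 1 := hω ▸ pow_orderOf_eq_one ω
  have hcab := G2Alt.diag_commute certD4C haT hbT
  have hT : ∀ p : Fin 3 × Fin 3, a ^ p.1.val * b ^ p.2.val ∈ chevD4.diagonalSubgroup K := fun p =>
    mul_mem (pow_mem haT _) (pow_mem hbT _)
  have key : ∀ p : Fin 3 × Fin 3, ∃ (e : Fin 3 × Fin 3) (c : Fin chevD4.rank → Kˣ),
      a ^ p.1.val * b ^ p.2.val = torusHom chevD4 tblD4 K c ∧ ∀ r < chevD4.nroots,
        chr tblD4 chevD4 (extend' c) r = ((ω : K) ^ (((coeff r 0 + coeff r 2 + coeff r 3) * (e.1.val : ℕ) +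
          coeff r 1 * (e.2.val : ℕ) : ℤ) % 3)) := by
    intro p
    obtain ⟨c, i, j, h, hi, hj, hchr⟩ := torus_three X hq hω (hT p)
      (mul_mem (pow_mem haG _) (pow_mem hbG _)) (by
        rw [((show Commute a b from hcab).pow_pow _ _).mul_pow, ← pow_mul, ← pow_mul, mul_comm, pow_mul,
          mul_comm (p.2.val), pow_mul, ha3, hb3, one_pow, one_pow, one_mul])
    exact ⟨(⟨i, hi⟩, ⟨j, hj⟩), c, h, hchr⟩
  choose e c hc hchr using key
  have heinj : Function.Injective e := fun x y h => hinj (by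
    simp only
    rw [hc, hc]
    exact torusHom_congr fun r hr => by rw [hchr x r hr, hchr y r hr, h])
  obtain ⟨p, hp⟩ := (Finite.injective_iff_surjective.1 heinj) (1, 0)
  have hz : a ^ p.1.val * b ^ p.2.val = zElt ω := by
    rw [hc p, eq_zElt_pow hω (i := 1) (by intro r hr; simpa [hp] using hchr p r hr), pow_one]
  have hp0 : p ≠ (0, 0) := by
    rintro rfl
    simp only [Fin.val_zero, pow_zero, mul_one] at hz
    have h2 := congrArg (fun x => x * xg certD4C 18 (1 : K) * x⁻¹) hz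
    simp only [one_mul, inv_one, mul_one] at h2
    rw [zElt, torusHom_conj_xg certD4C _ (by decide : 18 < chevD4.nroots), mul_one, chr_zc hω3 (by decide),
      show res 18 = 1 by decide +kernel, pow_one] at h2
    have h3 := xg_injective certD4C (by decide : 18 < chevD4.nroots) h2
    rw [eq_comm, Units.val_eq_one] at h3
    rw [h3, orderOf_one] at hω
    omega
  have himg : s * zElt ω * s⁻¹ = b ^ p.1.val * a⁻¹ ^ p.2.val := by
    rw [← hz, ← conj_mul, ← conj_pow, ← conj_pow, hsa, hsb]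
  obtain ⟨u, hu, hst, huw, d, hd, hfus⟩ := fusion_word X hsG
  have hzT := zElt_mem (F := K) ω
  have hfus' := hfus _ hzT (by rw [himg]; exact mul_mem (pow_mem hbT _) (pow_mem (inv_mem haT) _))
  rw [show ∀ W : GL chevD4.Idx K, W * d * zElt ω * (W * d)⁻¹ = W * (d * zElt ω * d⁻¹) * W⁻¹ from
    fun W => by group, G2Alt.diag_commute certD4C hd hzT, mul_inv_cancel_right] at hfus'
  obtain ⟨c', he, hech⟩ := torus_word_conj certD4C huw (fun j : Fin chevD4.rank => ω ^ zExp j.val)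
  have hpm : s * zElt ω * s⁻¹ = zElt ω ∨ s * zElt ω * s⁻¹ = zElt ω ^ 2 := by
    rw [hfus', zElt, he, ← map_pow]
    refine (stab_res' u hu hst).imp (fun h => torusHom_congr fun r hr => ?_)
      fun h => torusHom_congr fun r hr => ?_
    all_goals
      have hrv : wperm tblD4 u.reverse r < chevD4.nroots := wperm_lt certD4C huw.reverse hr
      have e1 : wperm tblD4 u (wperm tblD4 u.reverse r) = r := by
        have := wperm_reverse certD4C huw.reverse hr
        rwa [List.reverse_reverse] at this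
      have e2 := hech _ hrv
      have e3 := h _ hrv
      rw [e1] at e2 e3
      rw [e2, chr_zc hω3 hrv]
    · rw [chr_zc hω3 hr, e3]
    · rw [chr_pow' (T := tblD4), chr_zc hω3 hr, e3, ← Units.val_pow_eq_pow_val, ← pow_mul,
        pow_eq_pow_mod _ hω3, pow_eq_pow_mod (_ % 3 * 2) hω3]
      congr 2
      omega
  obtain ⟨⟨m, hm⟩, ⟨n, hn⟩⟩ := p
  simp only at hz himg
  have ha2 : a⁻¹ = a ^ 2 := (eq_inv_of_mul_eq_one_left (by rw [← pow_succ]; exact ha3)).symm
  have hcp := fun i j => (show Commute a b from hcab).pow_pow i j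
  have hnine : ∀ i j i' j' : ℕ, a ^ i * b ^ j = a ^ i' * b ^ j' → i % 3 = i' % 3 ∧ j % 3 = j' % 3 := by
    intro i j i' j' h
    have h' := @hinj (⟨i % 3, Nat.mod_lt _ (by norm_num)⟩, ⟨j % 3, Nat.mod_lt _ (by norm_num)⟩)
      (⟨i' % 3, Nat.mod_lt _ (by norm_num)⟩, ⟨j' % 3, Nat.mod_lt _ (by norm_num)⟩) (by
        simp only
        rw [← pow_eq_pow_mod i ha3, ← pow_eq_pow_mod j hb3, ← pow_eq_pow_mod i' ha3, ← pow_eq_pow_mod j' hb3]
        exact h)
    simpa [Prod.ext_iff, Fin.ext_iff] using h'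
  have hsw : s * zElt ω * s⁻¹ = a ^ (2 * n) * b ^ m := by
    rw [himg, ha2, ← pow_mul, (hcp (2 * n) m).eq]
  rcases hpm with h | h
  · rw [hsw, ← hz] at h
    obtain ⟨h1, h2⟩ := hnine _ _ _ _ h
    exact hp0 (by ext <;> simp <;> omega)
  · rw [hsw, ← hz, (hcp m n).mul_pow, ← pow_mul, ← pow_mul] at h
    obtain ⟨h1, h2⟩ := hnine _ _ _ _ h
    exact hp0 (by ext <;> simp <;> omega)

omit X in
theorem pair_injective {G : Type*} [Group G] {a b : G} (ha : a ^ 3 = 1) (hb : b ^ 3 = 1) (ha1 : a ≠ 1)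
    (hb1 : b ≠ 1) (hne : b ≠ a) (hne' : b ≠ a⁻¹) :
    Function.Injective fun p : Fin 3 × Fin 3 => a ^ p.1.val * b ^ p.2.val := by
  haveI : Fact (Nat.Prime 3) := ⟨Nat.prime_three⟩
  have hoa := orderOf_eq_prime ha ha1
  have hob := orderOf_eq_prime hb hb1
  rintro ⟨i, j⟩ ⟨k, l⟩ h
  simp only at h
  have e : (a ^ k.val)⁻¹ * a ^ i.val = b ^ l.val * (b ^ j.val)⁻¹ := by
    calc _ = (a ^ k.val)⁻¹ * (a ^ i.val * b ^ j.val) * (b ^ j.val)⁻¹ := by group
      _ = _ := by rw [h]; group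
  rw [← zpow_natCast, ← zpow_natCast, ← zpow_natCast b, ← zpow_natCast b, ← zpow_neg, ← zpow_neg, ← zpow_add,
    ← zpow_add] at e
  set x : ℤ := -(k.val : ℤ) + (i.val : ℤ) with hx
  set y : ℤ := (l.val : ℤ) + -(j.val : ℤ) with hy
  rw [← zpow_mod_orderOf a, ← zpow_mod_orderOf b, hoa, hob] at e
  have hb2 : b ^ (2 : ℤ) = b⁻¹ := eq_inv_of_mul_eq_one_left (by
    rw [show b ^ (2 : ℤ) * b = b ^ 3 by group, hb])
  have ha2 : a ^ (2 : ℤ) = a⁻¹ := eq_inv_of_mul_eq_one_left (by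
    rw [show a ^ (2 : ℤ) * a = a ^ 3 by group, ha])
  have hx3 : x % (3 : ℕ) = 0 ∧ y % (3 : ℕ) = 0 := by
    rcases (show x % (3 : ℕ) = 0 ∨ x % (3 : ℕ) = 1 ∨ x % (3 : ℕ) = 2 by omega) with hxv | hxv | hxv <;>
      rcases (show y % (3 : ℕ) = 0 ∨ y % (3 : ℕ) = 1 ∨ y % (3 : ℕ) = 2 by omega) with hyv | hyv | hyv <;>
      rw [hxv, hyv] at e <;> simp only [zpow_zero, zpow_one, ha2, hb2] at e
    · exact ⟨hxv, hyv⟩
    · exact absurd e.symm hb1
    · exact absurd (inv_eq_one.1 e.symm) hb1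
    · exact absurd e ha1
    · exact absurd e.symm hne
    · exact absurd (by rw [e, inv_inv]) hne'
    · exact absurd (inv_eq_one.1 e) ha1
    · exact absurd e.symm hne'
    · exact absurd (inv_injective e).symm hne
  have hi := i.2; have hj := j.2; have hk := k.2; have hl := l.2
  obtain ⟨h1, h2⟩ := hx3
  exact Prod.ext (Fin.ext (show i.val = k.val by omega)) (Fin.ext (show j.val = l.val by omega))

theorem no_config (hq : q % 3 = 1) {α β σ y : ↥(Cfsg.Lie.twistedD4 K q)} (hα : α ^ 3 = 1) (hβ : β ^ 3 = 1)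
    (hc : α * β = β * α) (hσα : σ * α * σ⁻¹ = β) (hσβ : σ * β * σ⁻¹ = α⁻¹) (ha1 : α ≠ 1) (hb1 : β ≠ 1)
    (hne : β ≠ α) (hne' : β ≠ α⁻¹) (hyα : y * α * y⁻¹ = α⁻¹) (hyβ : y * β * y⁻¹ = β) : False := by
  classical
  have hc' : Commute α β := hc
  have hP : IsPGroup 3 ↥(Subgroup.closure {α, β}) := by
    rintro ⟨x, hx⟩
    refine ⟨1, Subtype.ext ?_⟩
    rw [pow_one, SubmonoidClass.coe_pow, OneMemClass.coe_one]
    have hcomm : IsMulCommutative (Subgroup.closure {α, β}) := Subgroup.isMulCommutative_closure (by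
      intro x hx y hy
      rcases hx with rfl | rfl <;> rcases hy with rfl | rfl <;> first | rfl | exact hc | exact hc.symm)
    induction hx using Subgroup.closure_induction with
    | mem y hy => rcases hy with rfl | rfl <;> assumption
    | one => simp
    | mul y z hy hz ihy ihz =>
      rw [Commute.mul_pow (congrArg Subtype.val (hcomm.is_comm.comm ⟨y, hy⟩ ⟨z, hz⟩)), ihy, ihz, one_mul]
    | inv y _ ih => rw [inv_pow, ih, inv_one]
  obtain ⟨t, ht⟩ := conj_into_mon X hq hP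
  let κ : ↥(Cfsg.Lie.twistedD4 K q) →* GL chevD4.Idx K :=
    (Cfsg.Lie.twistedD4 K q).subtype.comp (MulAut.conj t⁻¹).toMonoidHom
  have hκinj : Function.Injective κ := fun x y h => (MulAut.conj t⁻¹).injective (Subtype.ext h)
  have hκG : ∀ x, κ x ∈ Cfsg.Lie.twistedD4 K q := fun x => SetLike.coe_mem _
  have hκM : ∀ p ∈ Subgroup.closure {α, β}, κ p ∈ chevD4.monomialSubgroup K := fun p hp => by
    simpa [κ] using Subgroup.mem_subgroupOf.mp (ht p hp)
  have hαE : α ∈ Subgroup.closure {α, β} := Subgroup.subset_closure (Set.mem_insert α {β})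
  have hβE : β ∈ Subgroup.closure {α, β} := Subgroup.subset_closure (Set.mem_insert_of_mem α rfl)
  have n1 : ∀ {x}, x ≠ 1 → κ x ≠ 1 := fun h e => h (hκinj (e.trans (map_one κ).symm))
  set T := chevD4.diagonalSubgroup K
  by_cases hall : κ α ∈ T ∧ κ β ∈ T
  · refine no_torus_nine X hq (s := κ σ) (hκG α) (hκG β) (hκG σ) hall.1 hall.2 (by rw [← map_pow, hα, map_one])
      (by rw [← map_pow, hβ, map_one]) (by rw [← map_inv, ← map_mul, ← map_mul, hσα])
      (by rw [← map_inv, ← map_mul, ← map_mul, hσβ, map_inv]) ?_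
    intro p p' h
    refine pair_injective hα hβ ha1 hb1 hne hne' (hκinj ?_)
    simpa [map_mul, map_pow] using h
  have line : ∀ L w r g : ↥(Cfsg.Lie.twistedD4 K q), L ∈ Subgroup.closure {α, β} →
      w ∈ Subgroup.closure {α, β} → κ L ∈ T → L ^ 3 = 1 → L ≠ 1 → w * L = L * w → r * L * r⁻¹ = L →
      r * w * r⁻¹ = w⁻¹ → g * L * g⁻¹ = w → (κ w ∈ T → κ α ∈ T ∧ κ β ∈ T) → False := by
    intro L w r g hLE hwE hLT hL3 hL1 hwL hrL hrw hgw hboth
    refine no_line X hq (L := κ L) (w := κ w) (r := κ r) (g := κ g) (hκG _) (hκG _) (hκG _) (hκG _) hLT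
      (by rw [← map_pow, hL3, map_one]) (n1 hL1) (hκM _ hwE) (fun h => hall (hboth h))
      (by rw [← map_mul, hwL, map_mul]) ?_ (by rw [← map_inv, ← map_mul, ← map_mul, hrw, map_inv])
      (by rw [← map_inv, ← map_mul, ← map_mul, hgw])
    rw [← map_mul, ← map_mul]
    congr 1
    exact mul_inv_eq_iff_eq_mul.1 hrL
  have cm : ∀ g a b : ↥(Cfsg.Lie.twistedD4 K q), g * (a * b) * g⁻¹ = g * a * g⁻¹ * (g * b * g⁻¹) :=
    fun g a b => by group
  have ci : ∀ g a : ↥(Cfsg.Lie.twistedD4 K q), g * a⁻¹ * g⁻¹ = (g * a * g⁻¹)⁻¹ := fun g a => by group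
  have cc : ∀ g h a : ↥(Cfsg.Lie.twistedD4 K q), g * h * a * (g * h)⁻¹ = g * (h * a * h⁻¹) * g⁻¹ :=
    fun g h a => by group
  have hσiα : σ⁻¹ * α * σ⁻¹⁻¹ = β⁻¹ := by
    rw [show α = (σ * β * σ⁻¹)⁻¹ by rw [hσβ, inv_inv]]; group
  have hσiβ : σ⁻¹ * β * σ⁻¹⁻¹ = α := by rw [← hσα]; group
  have hαβ : (α * β) ^ 3 = 1 := by rw [hc'.mul_pow, hα, hβ, one_mul]
  have hαβ' : (α * β⁻¹) ^ 3 = 1 := by rw [hc'.inv_right.mul_pow, hα, inv_pow, hβ, inv_one, one_mul]
  have d1 : α * β ≠ 1 := fun h => hne' (eq_inv_of_mul_eq_one_right h)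
  have d2 : α * β⁻¹ ≠ 1 := fun h => hne (mul_inv_eq_one.mp h).symm
  have mT : ∀ {x}, x ^ 3 = 1 → κ (x * x) ∈ T → κ x ∈ T := fun {x} hx h => by
    have : x = (x * x)⁻¹ := eq_inv_of_mul_eq_one_left (by rw [← pow_two, ← pow_succ']; exact hx)
    rw [this, map_inv]
    exact inv_mem h
  by_cases hA : κ α ∈ T
  · refine line α β (σ * y * σ⁻¹) σ hαE hβE hA hα ha1 hc.symm ?_ ?_ hσα fun h => ⟨hA, h⟩
    · rw [cc, hσiα, cc, ci, hyβ, ci, hσβ, inv_inv]
    · rw [cc, hσiβ, cc, hyα, ci, hσα]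
  by_cases hB : κ β ∈ T
  · exact line β α⁻¹ y σ hβE (inv_mem hαE) hB hβ hb1 (hc'.inv_left.eq) hyβ (by rw [ci, hyα]) hσβ
      fun h => ⟨by simpa using inv_mem h, hB⟩
  rcases outside_pair X (hκM _ hαE) (hκG α) (hκM _ hβE) (hκG β)
    (by rw [← map_pow, hα, map_one]; exact one_mem _) (by rw [← map_pow, hβ, map_one]; exact one_mem _) hA hB with h | h
  · refine line (α * β) (β * α⁻¹) (y * σ) σ (mul_mem hαE hβE) (mul_mem hβE (inv_mem hαE))
      (by rw [map_mul]; exact h) hαβ d1 ?_ ?_ ?_ (by rw [cm, hσα, hσβ]) fun h' => ?_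
    · exact ((hc'.symm.mul_right (Commute.refl β)).mul_left
        ((Commute.refl α).inv_left.mul_right hc'.inv_left)).eq
    · rw [cc, cm σ α β, hσα, hσβ, cm y β α⁻¹, hyβ, ci, hyα, inv_inv, hc'.eq]
    · rw [cc, cm σ β α⁻¹, hσβ, ci, hσα, cm y α⁻¹ β⁻¹, ci, ci, hyα, hyβ, inv_inv, mul_inv_rev, inv_inv]
    · have hb : κ β ∈ T := mT hβ (by
        have := mul_mem h h'
        rwa [← map_mul, show β * α⁻¹ = α⁻¹ * β from hc'.inv_left.eq.symm, ← map_mul,
          show α * β * (α⁻¹ * β) = β * β by rw [hc'.eq]; group] at this)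
      exact absurd hb hB
  · have h' : κ (α * β⁻¹) ∈ T := by
      rw [map_mul, map_inv, show (κ β)⁻¹ = κ β * κ β by
        rw [inv_eq_iff_mul_eq_one, ← mul_assoc, ← pow_two, ← pow_succ, ← map_pow, hβ, map_one], ← mul_assoc]
      exact h
    refine line (α * β⁻¹) (β * α) (σ * y) σ (mul_mem hαE (inv_mem hβE)) (mul_mem hβE hαE)
      h' hαβ' d2 ?_ ?_ ?_ (by rw [cm, ci, hσα, hσβ, inv_inv]) fun h'' => ?_
    · exact (((hc'.symm).mul_right (Commute.refl β).inv_right).mul_left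
        ((Commute.refl α).mul_right hc'.inv_right)).eq
    · rw [cc, cm y α β⁻¹, ci, hyα, hyβ, cm σ α⁻¹ β⁻¹, ci, ci, hσα, hσβ, inv_inv]
      exact hc'.inv_right.eq.symm
    · rw [cc, cm y β α, hyβ, hyα, cm σ β α⁻¹, ci, hσβ, hσα, mul_inv_rev]
    · have hb : κ α ∈ T := mT hα (by
        have := mul_mem h' h''
        rwa [← map_mul, show α * β⁻¹ * (β * α) = α * α by group] at this)
      exact absurd hb hA

end Cfsg.Lib.Chev.TriAlt
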